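import Cfsg.Agent.Spor.J3a.D0

set_option autoImplicit false
set_option maxRecDepth 100000000
set_option Elab.async false

namespace Cfsg.Agent.Spor.J3a

theorem ok0 : Net.okb 15 n0 = true := by decide +kernel

theorem ok1 : Net.okb 15 n1 = true := by decide +kernel

theorem ok2 : Net.okb 15 n2 = true := by decide +kernel

theorem ok3 : Net.okb 15 n3 = true := by decide +kernel

theorem rel0 : T.rel 15 [1, 1] 0 15 = true := by decide +kernel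

theorem rel1 : T.rel 15 [2, 3, 5, 5, 3, 2, 2, 6, 5, 5, 6, 2] 0 15 = true := by decide +kernel

theorem rel2 : T.rel 15 [2, 3, 5, 2, 3, 5, 2, 3, 5] 0 15 = true := by decide +kernel

theorem rel3 : T.rel 15 [3, 2, 3, 5, 6, 2, 6, 5] 0 15 = true := by decide +kernel

theorem rel4 : T.rel 15 [3, 5, 3, 2, 6, 5, 6, 2] 0 15 = true := by decide +kernel

theorem rel5 : T.rel 15 [3, 3, 3] 0 15 = true := by decide +kernel

theorem rel6 : T.rel 15 [5, 3, 2, 5, 3, 2, 5, 3, 2] 0 15 = true := by decide +kernel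

theorem rel7 : T.rel 15 [1, 2, 1, 2] 0 15 = true := by decide +kernel

theorem rel8 : T.rel 15 [1, 3, 1, 3, 1, 3, 1, 5, 3, 2, 2, 6, 5] 0 15 = true := by decide +kernel

theorem rel9 : T.rel 15 [1, 3, 5, 6, 1, 6, 2, 3, 1, 5, 3, 2] 0 15 = true := by decide +kernel

theorem rel10 : T.rel 15 [2, 3, 4, 4, 4, 5, 3] 0 15 = true := by decide +kernel

theorem rel11 : T.rel 15 [2, 3, 5, 4, 4, 3, 4] 0 15 = true := by decide +kernel

theorem rel12 : T.rel 15 [2, 4, 4, 4, 3, 5, 3] 0 15 = true := by decide +kernel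

theorem rel13 : T.rel 15 [3, 7, 1, 4, 6, 7, 1, 4] 0 15 = true := by decide +kernel

theorem rel14 : T.rel 15 [3, 7, 2, 4, 3, 7, 5, 4] 0 15 = true := by decide +kernel

theorem rel15 : T.rel 15 [7, 1, 6, 7, 6, 4, 1, 4, 6] 0 15 = true := by decide +kernel

theorem rel16 : T.rel 15 [2, 4, 2, 7, 5, 5, 4, 3] 0 15 = true := by decide +kernel

theorem rel17 : T.rel 15 [1, 7, 1, 7, 1, 7, 1, 7] 0 15 = true := by decide +kernel

theorem rel18 : T.rel 15 [7, 1, 7, 7, 1, 7, 7, 1, 7, 7, 1, 7, 5, 5, 5, 5, 1] 0 15 = true := by decide +kernel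

theorem rel19 : T.rel 15 [7, 1, 2, 4, 1, 6, 7, 1, 2, 4, 1, 7, 5, 1, 4, 3, 1, 6] 0 15 = true := by decide +kernel

theorem hcov : T.treeCov (ones 23256) L 1 = true := by decide +kernel

theorem hg : lall (fun z => band (memL L z) (band (sub (ones 23256) (T.let z).cl) (T.closed (ones 23256) z))) gs = true := by decide +kernel

theorem rot1_1 : T.rot 1 [1] (sel (ones 23256) ip1 1) = true := by decide +kernel

theorem rot1_1r : band (Rule.ok (2 * 1) EX RL ⟨1 :: [1], [], 19, false⟩) (lall (memL L) [1]) = true := by decide +kernel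

theorem rot1_2 : T.rot 1 [2, 1, 2] (sel (ones 23256) ip1 2) = true := by decide +kernel

theorem rot1_2r : band (Rule.ok (2 * 1) EX RL ⟨1 :: [2, 1, 2], [], 6, true⟩) (lall (memL L) [2, 1, 2]) = true := by decide +kernel

theorem rot1_3 : T.rot 1 [5, 1, 5] (sel (ones 23256) ip1 3) = true := by decide +kernel

theorem rot1_3r : band (Rule.ok (2 * 1) EX RL ⟨1 :: [5, 1, 5], [0], 6, false⟩) (lall (memL L) [5, 1, 5]) = true := by decide +kernel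

theorem rot1_4 : T.rot 1 [4, 6, 7, 1, 4, 3, 7] (sel (ones 23256) ip1 4) = true := by decide +kernel

theorem rot1_4r : band (Rule.ok (2 * 1) EX RL ⟨1 :: [4, 6, 7, 1, 4, 3, 7], [5, 6], 12, true⟩) (lall (memL L) [4, 6, 7, 1, 4, 3, 7]) = true := by decide +kernel

theorem rot1_5 : T.rot 1 [4, 3, 7, 1, 4, 6, 7] (sel (ones 23256) ip1 5) = true := by decide +kernel

theorem rot1_5r : band (Rule.ok (2 * 1) EX RL ⟨1 :: [4, 3, 7, 1, 4, 6, 7], [6], 12, false⟩) (lall (memL L) [4, 3, 7, 1, 4, 6, 7]) = true := by decide +kernel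

theorem rot1_6 : T.rot 1 [7, 1, 7, 1, 7, 1, 7] (sel (ones 23256) ip1 6) = true := by decide +kernel

theorem rot1_6r : band (Rule.ok (2 * 1) EX RL ⟨1 :: [7, 1, 7, 1, 7, 1, 7], [], 16, true⟩) (lall (memL L) [7, 1, 7, 1, 7, 1, 7]) = true := by decide +kernel

theorem rot1_7 : T.rot 1 [4, 1, 4, 1, 4, 1, 4] (sel (ones 23256) ip1 7) = true := by decide +kernel

theorem rot1_7r : band (Rule.ok (2 * 1) EX RL ⟨1 :: [4, 1, 4, 1, 4, 1, 4], [0], 16, false⟩) (lall (memL L) [4, 1, 4, 1, 4, 1, 4]) = true := by decide +kernel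

theorem rot1_8 : T.rot 1 [6, 7, 6, 4, 1, 4, 6, 7] (sel (ones 23256) ip1 8) = true := by decide +kernel

theorem rot1_8r : band (Rule.ok (2 * 1) EX RL ⟨1 :: [6, 7, 6, 4, 1, 4, 6, 7], [6], 14, true⟩) (lall (memL L) [6, 7, 6, 4, 1, 4, 6, 7]) = true := by decide +kernel

theorem rot1_9 : T.rot 1 [4, 6, 7, 1, 6, 7, 6, 4] (sel (ones 23256) ip1 9) = true := by decide +kernel

theorem rot1_9r : band (Rule.ok (2 * 1) EX RL ⟨1 :: [4, 6, 7, 1, 6, 7, 6, 4], [5, 6, 0], 14, true⟩) (lall (memL L) [4, 6, 7, 1, 6, 7, 6, 4]) = true := by decide +kernel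

theorem rot1_10 : T.rot 1 [7, 3, 4, 3, 1, 4, 3, 7] (sel (ones 23256) ip1 10) = true := by decide +kernel

theorem rot1_10r : band (Rule.ok (2 * 1) EX RL ⟨1 :: [7, 3, 4, 3, 1, 4, 3, 7], [5, 6], 14, false⟩) (lall (memL L) [7, 3, 4, 3, 1, 4, 3, 7]) = true := by decide +kernel

theorem rot1_11 : T.rot 1 [4, 3, 7, 1, 7, 3, 4, 3] (sel (ones 23256) ip1 11) = true := by decide +kernel

theorem rot1_11r : band (Rule.ok (2 * 1) EX RL ⟨1 :: [4, 3, 7, 1, 7, 3, 4, 3], [6, 0], 14, false⟩) (lall (memL L) [4, 3, 7, 1, 7, 3, 4, 3]) = true := by decide +kernel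

theorem rot1_12 : T.rot 1 [3, 5, 6, 1, 6, 2, 3, 1, 5, 3, 2] (sel (ones 23256) ip1 12) = true := by decide +kernel

theorem rot1_12r : band (Rule.ok (2 * 1) EX RL ⟨1 :: [3, 5, 6, 1, 6, 2, 3, 1, 5, 3, 2], [], 8, true⟩) (lall (memL L) [3, 5, 6, 1, 6, 2, 3, 1, 5, 3, 2]) = true := by decide +kernel

theorem rot1_13 : T.rot 1 [6, 2, 3, 1, 5, 3, 2, 1, 3, 5, 6] (sel (ones 23256) ip1 13) = true := by decide +kernel

theorem rot1_13r : band (Rule.ok (2 * 1) EX RL ⟨1 :: [6, 2, 3, 1, 5, 3, 2, 1, 3, 5, 6], [0, 5, 2, 4], 8, true⟩) (lall (memL L) [6, 2, 3, 1, 5, 3, 2, 1, 3, 5, 6]) = true := by decide +kernel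

theorem rot1_14 : T.rot 1 [5, 3, 2, 1, 3, 5, 6, 1, 6, 2, 3] (sel (ones 23256) ip1 14) = true := by decide +kernel

theorem rot1_14r : band (Rule.ok (2 * 1) EX RL ⟨1 :: [5, 3, 2, 1, 3, 5, 6, 1, 6, 2, 3], [2, 4, 3, 0], 8, true⟩) (lall (memL L) [5, 3, 2, 1, 3, 5, 6, 1, 6, 2, 3]) = true := by decide +kernel

theorem rot1_15 : T.rot 1 [6, 5, 3, 1, 3, 2, 6, 1, 5, 6, 2] (sel (ones 23256) ip1 15) = true := by decide +kernel

theorem rot1_15r : band (Rule.ok (2 * 1) EX RL ⟨1 :: [6, 5, 3, 1, 3, 2, 6, 1, 5, 6, 2], [2, 4, 3], 8, false⟩) (lall (memL L) [6, 5, 3, 1, 3, 2, 6, 1, 5, 6, 2]) = true := by decide +kernel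

theorem rot1_16 : T.rot 1 [3, 2, 6, 1, 5, 6, 2, 1, 6, 5, 3] (sel (ones 23256) ip1 16) = true := by decide +kernel

theorem rot1_16r : band (Rule.ok (2 * 1) EX RL ⟨1 :: [3, 2, 6, 1, 5, 6, 2, 1, 6, 5, 3], [0, 5, 2, 4, 0], 8, false⟩) (lall (memL L) [3, 2, 6, 1, 5, 6, 2, 1, 6, 5, 3]) = true := by decide +kernel

theorem rot1_17 : T.rot 1 [5, 6, 2, 1, 6, 5, 3, 1, 3, 2, 6] (sel (ones 23256) ip1 17) = true := by decide +kernel

theorem rot1_17r : band (Rule.ok (2 * 1) EX RL ⟨1 :: [5, 6, 2, 1, 6, 5, 3, 1, 3, 2, 6], [0], 8, false⟩) (lall (memL L) [5, 6, 2, 1, 6, 5, 3, 1, 3, 2, 6]) = true := by decide +kernel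

theorem rot1_18 : T.rot 1 [3, 1, 3, 1, 3, 1, 5, 3, 2, 2, 6, 5] (sel (ones 23256) ip1 18) = true := by decide +kernel

theorem rot1_18r : band (Rule.ok (2 * 1) EX RL ⟨1 :: [3, 1, 3, 1, 3, 1, 5, 3, 2, 2, 6, 5], [], 7, true⟩) (lall (memL L) [3, 1, 3, 1, 3, 1, 5, 3, 2, 2, 6, 5]) = true := by decide +kernel

theorem rot1_19 : T.rot 1 [3, 1, 3, 1, 5, 3, 2, 2, 6, 5, 1, 3] (sel (ones 23256) ip1 19) = true := by decide +kernel

theorem rot1_19r : band (Rule.ok (2 * 1) EX RL ⟨1 :: [3, 1, 3, 1, 5, 3, 2, 2, 6, 5, 1, 3], [0, 5], 7, true⟩) (lall (memL L) [3, 1, 3, 1, 5, 3, 2, 2, 6, 5, 1, 3]) = true := by decide +kernel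

theorem rot1_20 : T.rot 1 [3, 1, 5, 3, 2, 2, 6, 5, 1, 3, 1, 3] (sel (ones 23256) ip1 20) = true := by decide +kernel

theorem rot1_20r : band (Rule.ok (2 * 1) EX RL ⟨1 :: [3, 1, 5, 3, 2, 2, 6, 5, 1, 3, 1, 3], [0, 5, 0, 5], 7, true⟩) (lall (memL L) [3, 1, 5, 3, 2, 2, 6, 5, 1, 3, 1, 3]) = true := by decide +kernel

theorem rot1_21 : T.rot 1 [5, 3, 2, 2, 6, 5, 1, 3, 1, 3, 1, 3] (sel (ones 23256) ip1 21) = true := by decide +kernel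

theorem rot1_21r : band (Rule.ok (2 * 1) EX RL ⟨1 :: [5, 3, 2, 2, 6, 5, 1, 3, 1, 3, 1, 3], [0, 5, 0, 5, 0, 5], 7, true⟩) (lall (memL L) [5, 3, 2, 2, 6, 5, 1, 3, 1, 3, 1, 3]) = true := by decide +kernel

theorem rot1_22 : T.rot 1 [6, 1, 6, 1, 6, 1, 2, 3, 5, 5, 6, 2] (sel (ones 23256) ip1 22) = true := by decide +kernel

theorem rot1_22r : band (Rule.ok (2 * 1) EX RL ⟨1 :: [6, 1, 6, 1, 6, 1, 2, 3, 5, 5, 6, 2], [3, 5, 2, 2, 4, 3], 7, false⟩) (lall (memL L) [6, 1, 6, 1, 6, 1, 2, 3, 5, 5, 6, 2]) = true := by decide +kernel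

theorem rot1_23 : T.rot 1 [6, 1, 6, 1, 2, 3, 5, 5, 6, 2, 1, 6] (sel (ones 23256) ip1 23) = true := by decide +kernel

theorem rot1_23r : band (Rule.ok (2 * 1) EX RL ⟨1 :: [6, 1, 6, 1, 2, 3, 5, 5, 6, 2, 1, 6], [0, 5, 0, 5, 0], 7, false⟩) (lall (memL L) [6, 1, 6, 1, 2, 3, 5, 5, 6, 2, 1, 6]) = true := by decide +kernel

theorem rot1_24 : T.rot 1 [6, 1, 2, 3, 5, 5, 6, 2, 1, 6, 1, 6] (sel (ones 23256) ip1 24) = true := by decide +kernel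

theorem rot1_24r : band (Rule.ok (2 * 1) EX RL ⟨1 :: [6, 1, 2, 3, 5, 5, 6, 2, 1, 6, 1, 6], [0, 5, 0], 7, false⟩) (lall (memL L) [6, 1, 2, 3, 5, 5, 6, 2, 1, 6, 1, 6]) = true := by decide +kernel

theorem rot1_25 : T.rot 1 [2, 3, 5, 5, 6, 2, 1, 6, 1, 6, 1, 6] (sel (ones 23256) ip1 25) = true := by decide +kernel

theorem rot1_25r : band (Rule.ok (2 * 1) EX RL ⟨1 :: [2, 3, 5, 5, 6, 2, 1, 6, 1, 6, 1, 6], [0], 7, false⟩) (lall (memL L) [2, 3, 5, 5, 6, 2, 1, 6, 1, 6, 1, 6]) = true := by decide +kernel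

theorem rot1_26 : T.rot 1 [7, 7, 1, 7, 7, 1, 7, 7, 1, 7, 5, 5, 5, 5, 1, 7] (sel (ones 23256) ip1 26) = true := by decide +kernel

theorem rot1_26r : band (Rule.ok (2 * 1) EX RL ⟨1 :: [7, 7, 1, 7, 7, 1, 7, 7, 1, 7, 5, 5, 5, 5, 1, 7], [6], 17, true⟩) (lall (memL L) [7, 7, 1, 7, 7, 1, 7, 7, 1, 7, 5, 5, 5, 5, 1, 7]) = true := by decide +kernel

theorem rot1_27 : T.rot 1 [7, 7, 1, 7, 7, 1, 7, 5, 5, 5, 5, 1, 7, 1, 7, 7] (sel (ones 23256) ip1 27) = true := by decide +kernel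

theorem rot1_27r : band (Rule.ok (2 * 1) EX RL ⟨1 :: [7, 7, 1, 7, 7, 1, 7, 5, 5, 5, 5, 1, 7, 1, 7, 7], [6, 0, 6, 6], 17, true⟩) (lall (memL L) [7, 7, 1, 7, 7, 1, 7, 5, 5, 5, 5, 1, 7, 1, 7, 7]) = true := by decide +kernel

theorem rot1_28 : T.rot 1 [7, 7, 1, 7, 5, 5, 5, 5, 1, 7, 1, 7, 7, 1, 7, 7] (sel (ones 23256) ip1 28) = true := by decide +kernel

theorem rot1_28r : band (Rule.ok (2 * 1) EX RL ⟨1 :: [7, 7, 1, 7, 5, 5, 5, 5, 1, 7, 1, 7, 7, 1, 7, 7], [6, 0, 6, 6, 0, 6, 6], 17, true⟩) (lall (memL L) [7, 7, 1, 7, 5, 5, 5, 5, 1, 7, 1, 7, 7, 1, 7, 7]) = true := by decide +kernel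

theorem rot1_29 : T.rot 1 [7, 5, 5, 5, 5, 1, 7, 1, 7, 7, 1, 7, 7, 1, 7, 7] (sel (ones 23256) ip1 29) = true := by decide +kernel

theorem rot1_29r : band (Rule.ok (2 * 1) EX RL ⟨1 :: [7, 5, 5, 5, 5, 1, 7, 1, 7, 7, 1, 7, 7, 1, 7, 7], [0, 3, 3, 3, 3, 7, 0], 17, true⟩) (lall (memL L) [7, 5, 5, 5, 5, 1, 7, 1, 7, 7, 1, 7, 7, 1, 7, 7]) = true := by decide +kernel

theorem rot1_30 : T.rot 1 [7, 1, 7, 7, 1, 7, 7, 1, 7, 7, 1, 7, 5, 5, 5, 5] (sel (ones 23256) ip1 30) = true := by decide +kernel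

theorem rot1_30r : band (Rule.ok (2 * 1) EX RL ⟨1 :: [7, 1, 7, 7, 1, 7, 7, 1, 7, 7, 1, 7, 5, 5, 5, 5], [0], 17, true⟩) (lall (memL L) [7, 1, 7, 7, 1, 7, 7, 1, 7, 7, 1, 7, 5, 5, 5, 5]) = true := by decide +kernel

theorem rot1_31 : T.rot 1 [2, 2, 2, 2, 4, 1, 4, 4, 1, 4, 4, 1, 4, 4, 1, 4] (sel (ones 23256) ip1 31) = true := by decide +kernel

theorem rot1_31r : band (Rule.ok (2 * 1) EX RL ⟨1 :: [2, 2, 2, 2, 4, 1, 4, 4, 1, 4, 4, 1, 4, 4, 1, 4], [], 17, false⟩) (lall (memL L) [2, 2, 2, 2, 4, 1, 4, 4, 1, 4, 4, 1, 4, 4, 1, 4]) = true := by decide +kernel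

theorem rot1_32 : T.rot 1 [4, 4, 1, 4, 4, 1, 4, 4, 1, 4, 1, 2, 2, 2, 2, 4] (sel (ones 23256) ip1 32) = true := by decide +kernel

theorem rot1_32r : band (Rule.ok (2 * 1) EX RL ⟨1 :: [4, 4, 1, 4, 4, 1, 4, 4, 1, 4, 1, 2, 2, 2, 2, 4], [0, 3, 3, 3, 3, 7], 17, false⟩) (lall (memL L) [4, 4, 1, 4, 4, 1, 4, 4, 1, 4, 1, 2, 2, 2, 2, 4]) = true := by decide +kernel

theorem rot1_33 : T.rot 1 [4, 4, 1, 4, 4, 1, 4, 1, 2, 2, 2, 2, 4, 1, 4, 4] (sel (ones 23256) ip1 33) = true := by decide +kernel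

theorem rot1_33r : band (Rule.ok (2 * 1) EX RL ⟨1 :: [4, 4, 1, 4, 4, 1, 4, 1, 2, 2, 2, 2, 4, 1, 4, 4], [6, 0, 6, 6, 0, 6, 6, 0], 17, false⟩) (lall (memL L) [4, 4, 1, 4, 4, 1, 4, 1, 2, 2, 2, 2, 4, 1, 4, 4]) = true := by decide +kernel

theorem rot1_34 : T.rot 1 [4, 4, 1, 4, 1, 2, 2, 2, 2, 4, 1, 4, 4, 1, 4, 4] (sel (ones 23256) ip1 34) = true := by decide +kernel

theorem rot1_34r : band (Rule.ok (2 * 1) EX RL ⟨1 :: [4, 4, 1, 4, 1, 2, 2, 2, 2, 4, 1, 4, 4, 1, 4, 4], [6, 0, 6, 6, 0], 17, false⟩) (lall (memL L) [4, 4, 1, 4, 1, 2, 2, 2, 2, 4, 1, 4, 4, 1, 4, 4]) = true := by decide +kernel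

theorem rot1_35 : T.rot 1 [4, 1, 2, 2, 2, 2, 4, 1, 4, 4, 1, 4, 4, 1, 4, 4] (sel (ones 23256) ip1 35) = true := by decide +kernel

theorem rot1_35r : band (Rule.ok (2 * 1) EX RL ⟨1 :: [4, 1, 2, 2, 2, 2, 4, 1, 4, 4, 1, 4, 4, 1, 4, 4], [6, 0], 17, false⟩) (lall (memL L) [4, 1, 2, 2, 2, 2, 4, 1, 4, 4, 1, 4, 4, 1, 4, 4]) = true := by decide +kernel

theorem rot1_36 : T.rot 1 [2, 4, 1, 6, 7, 1, 2, 4, 1, 7, 5, 1, 4, 3, 1, 6, 7] (sel (ones 23256) ip1 36) = true := by decide +kernel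

theorem rot1_36r : band (Rule.ok (2 * 1) EX RL ⟨1 :: [2, 4, 1, 6, 7, 1, 2, 4, 1, 7, 5, 1, 4, 3, 1, 6, 7], [6], 18, true⟩) (lall (memL L) [2, 4, 1, 6, 7, 1, 2, 4, 1, 7, 5, 1, 4, 3, 1, 6, 7]) = true := by decide +kernel

theorem rot1_37 : T.rot 1 [6, 7, 1, 2, 4, 1, 7, 5, 1, 4, 3, 1, 6, 7, 1, 2, 4] (sel (ones 23256) ip1 37) = true := by decide +kernel

theorem rot1_37r : band (Rule.ok (2 * 1) EX RL ⟨1 :: [6, 7, 1, 2, 4, 1, 7, 5, 1, 4, 3, 1, 6, 7, 1, 2, 4], [6, 0, 3, 7], 18, true⟩) (lall (memL L) [6, 7, 1, 2, 4, 1, 7, 5, 1, 4, 3, 1, 6, 7, 1, 2, 4]) = true := by decide +kernel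

theorem rot1_38 : T.rot 1 [2, 4, 1, 7, 5, 1, 4, 3, 1, 6, 7, 1, 2, 4, 1, 6, 7] (sel (ones 23256) ip1 38) = true := by decide +kernel

theorem rot1_38r : band (Rule.ok (2 * 1) EX RL ⟨1 :: [2, 4, 1, 7, 5, 1, 4, 3, 1, 6, 7, 1, 2, 4, 1, 6, 7], [6, 0, 3, 7, 0, 4, 6], 18, true⟩) (lall (memL L) [2, 4, 1, 7, 5, 1, 4, 3, 1, 6, 7, 1, 2, 4, 1, 6, 7]) = true := by decide +kernel

theorem rot1_39 : T.rot 1 [7, 5, 1, 4, 3, 1, 6, 7, 1, 2, 4, 1, 6, 7, 1, 2, 4] (sel (ones 23256) ip1 39) = true := by decide +kernel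

theorem rot1_39r : band (Rule.ok (2 * 1) EX RL ⟨1 :: [7, 5, 1, 4, 3, 1, 6, 7, 1, 2, 4, 1, 6, 7, 1, 2, 4], [5, 0, 4, 6, 0, 3, 7, 0], 18, true⟩) (lall (memL L) [7, 5, 1, 4, 3, 1, 6, 7, 1, 2, 4, 1, 6, 7, 1, 2, 4]) = true := by decide +kernel

theorem rot1_40 : T.rot 1 [4, 3, 1, 6, 7, 1, 2, 4, 1, 6, 7, 1, 2, 4, 1, 7, 5] (sel (ones 23256) ip1 40) = true := by decide +kernel

theorem rot1_40r : band (Rule.ok (2 * 1) EX RL ⟨1 :: [4, 3, 1, 6, 7, 1, 2, 4, 1, 6, 7, 1, 2, 4, 1, 7, 5], [5, 0, 4, 6, 0], 18, true⟩) (lall (memL L) [4, 3, 1, 6, 7, 1, 2, 4, 1, 6, 7, 1, 2, 4, 1, 7, 5]) = true := by decide +kernel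

theorem rot1_41 : T.rot 1 [6, 7, 1, 2, 4, 1, 6, 7, 1, 2, 4, 1, 7, 5, 1, 4, 3] (sel (ones 23256) ip1 41) = true := by decide +kernel

theorem rot1_41r : band (Rule.ok (2 * 1) EX RL ⟨1 :: [6, 7, 1, 2, 4, 1, 6, 7, 1, 2, 4, 1, 7, 5, 1, 4, 3], [5, 0], 18, true⟩) (lall (memL L) [6, 7, 1, 2, 4, 1, 6, 7, 1, 2, 4, 1, 7, 5, 1, 4, 3]) = true := by decide +kernel

theorem rot1_42 : T.rot 1 [6, 7, 1, 2, 4, 1, 7, 5, 1, 4, 3, 1, 7, 5, 1, 4, 3] (sel (ones 23256) ip1 42) = true := by decide +kernel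

theorem rot1_42r : band (Rule.ok (2 * 1) EX RL ⟨1 :: [6, 7, 1, 2, 4, 1, 7, 5, 1, 4, 3, 1, 7, 5, 1, 4, 3], [5], 18, false⟩) (lall (memL L) [6, 7, 1, 2, 4, 1, 7, 5, 1, 4, 3, 1, 7, 5, 1, 4, 3]) = true := by decide +kernel

theorem rot1_43 : T.rot 1 [2, 4, 1, 7, 5, 1, 4, 3, 1, 7, 5, 1, 4, 3, 1, 6, 7] (sel (ones 23256) ip1 43) = true := by decide +kernel

theorem rot1_43r : band (Rule.ok (2 * 1) EX RL ⟨1 :: [2, 4, 1, 7, 5, 1, 4, 3, 1, 7, 5, 1, 4, 3, 1, 6, 7], [5, 0, 4, 6], 18, false⟩) (lall (memL L) [2, 4, 1, 7, 5, 1, 4, 3, 1, 7, 5, 1, 4, 3, 1, 6, 7]) = true := by decide +kernel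

theorem rot1_44 : T.rot 1 [7, 5, 1, 4, 3, 1, 7, 5, 1, 4, 3, 1, 6, 7, 1, 2, 4] (sel (ones 23256) ip1 44) = true := by decide +kernel

theorem rot1_44r : band (Rule.ok (2 * 1) EX RL ⟨1 :: [7, 5, 1, 4, 3, 1, 7, 5, 1, 4, 3, 1, 6, 7, 1, 2, 4], [5, 0, 4, 6, 0, 3, 7], 18, false⟩) (lall (memL L) [7, 5, 1, 4, 3, 1, 7, 5, 1, 4, 3, 1, 6, 7, 1, 2, 4]) = true := by decide +kernel

theorem rot1_45 : T.rot 1 [4, 3, 1, 7, 5, 1, 4, 3, 1, 6, 7, 1, 2, 4, 1, 7, 5] (sel (ones 23256) ip1 45) = true := by decide +kernel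

theorem rot1_45r : band (Rule.ok (2 * 1) EX RL ⟨1 :: [4, 3, 1, 7, 5, 1, 4, 3, 1, 6, 7, 1, 2, 4, 1, 7, 5], [6, 0, 3, 7, 0, 4, 6, 0], 18, false⟩) (lall (memL L) [4, 3, 1, 7, 5, 1, 4, 3, 1, 6, 7, 1, 2, 4, 1, 7, 5]) = true := by decide +kernel

theorem rot1_46 : T.rot 1 [7, 5, 1, 4, 3, 1, 6, 7, 1, 2, 4, 1, 7, 5, 1, 4, 3] (sel (ones 23256) ip1 46) = true := by decide +kernel

theorem rot1_46r : band (Rule.ok (2 * 1) EX RL ⟨1 :: [7, 5, 1, 4, 3, 1, 6, 7, 1, 2, 4, 1, 7, 5, 1, 4, 3], [6, 0, 3, 7, 0], 18, false⟩) (lall (memL L) [7, 5, 1, 4, 3, 1, 6, 7, 1, 2, 4, 1, 7, 5, 1, 4, 3]) = true := by decide +kernel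

theorem rot1_47 : T.rot 1 [4, 3, 1, 6, 7, 1, 2, 4, 1, 7, 5, 1, 4, 3, 1, 7, 5] (sel (ones 23256) ip1 47) = true := by decide +kernel

theorem rot1_47r : band (Rule.ok (2 * 1) EX RL ⟨1 :: [4, 3, 1, 6, 7, 1, 2, 4, 1, 7, 5, 1, 4, 3, 1, 7, 5], [6, 0], 18, false⟩) (lall (memL L) [4, 3, 1, 6, 7, 1, 2, 4, 1, 7, 5, 1, 4, 3, 1, 7, 5]) = true := by decide +kernel

theorem cov1 : T.cover 1 [(sel (ones 23256) ip1 1), (sel (ones 23256) ip1 2), (sel (ones 23256) ip1 3), (sel (ones 23256) ip1 4), (sel (ones 23256) ip1 5), (sel (ones 23256) ip1 6), (sel (ones 23256) ip1 7), (sel (ones 23256) ip1 8), (sel (ones 23256) ip1 9), (sel (ones 23256) ip1 10), (sel (ones 23256) ip1 11), (sel (ones 23256) ip1 12), (sel (ones 23256) ip1 13), (sel (ones 23256) ip1 14), (sel (ones 23256) ip1 15), (sel (ones 23256) ip1 16), (sel (ones 23256) ip1 17), (sel (ones 23256) ip1 18), (sel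 (ones 23256) ip1 19), (sel (ones 23256) ip1 20), (sel (ones 23256) ip1 21), (sel (ones 23256) ip1 22), (sel (ones 23256) ip1 23), (sel (ones 23256) ip1 24), (sel (ones 23256) ip1 25), (sel (ones 23256) ip1 26), (sel (ones 23256) ip1 27), (sel (ones 23256) ip1 28), (sel (ones 23256) ip1 29), (sel (ones 23256) ip1 30), (sel (ones 23256) ip1 31), (sel (ones 23256) ip1 32), (sel (ones 23256) ip1 33), (sel (ones 23256) ip1 34), (sel (ones 23256) ip1 35), (sel (ones 23256) ip1 36), (sel (ones 23256) ip1 37), (sel (ones 23256) ip1 38), (sel (ones 23256) ip1 39), (sel (ones 23256) ip1 40), (sel (ones 23256) ip1 41), (sel (ones 23256) ip1 42), (sel (ones 23256) ip1 43), (sel (ones 23256) ip1 44), (sel (ones 23256) ip1 45), (sel (ones 23256) ip1 46), (sel (ones 23256) ip1 47), 1] = true := by decide +kernel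

theorem tl1 : T.treeLt 15 1 = true := by decide +kernel

theorem rot2_1 : T.rot 2 [5] (sel (ones 23256) ip2 1) = true := by decide +kernel

theorem rot2_1r : band (Rule.ok (2 * 1) EX RL ⟨2 :: [5], [], 19, false⟩) (lall (memL L) [5]) = true := by decide +kernel

theorem rot2_2 : T.rot 2 [1, 2, 1] (sel (ones 23256) ip2 2) = true := by decide +kernel

theorem rot2_2r : band (Rule.ok (2 * 1) EX RL ⟨2 :: [1, 2, 1], [2], 6, true⟩) (lall (memL L) [1, 2, 1]) = true := by decide +kernel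

theorem rot2_3 : T.rot 2 [3, 4, 4, 4, 5, 3] (sel (ones 23256) ip2 3) = true := by decide +kernel

theorem rot2_3r : band (Rule.ok (2 * 1) EX RL ⟨2 :: [3, 4, 4, 4, 5, 3], [], 9, true⟩) (lall (memL L) [3, 4, 4, 4, 5, 3]) = true := by decide +kernel

theorem rot2_4 : T.rot 2 [7, 7, 7, 6, 5, 6] (sel (ones 23256) ip2 4) = true := by decide +kernel

theorem rot2_4r : band (Rule.ok (2 * 1) EX RL ⟨2 :: [7, 7, 7, 6, 5, 6], [4], 9, false⟩) (lall (memL L) [7, 7, 7, 6, 5, 6]) = true := by decide +kernel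

theorem rot2_5 : T.rot 2 [3, 5, 4, 4, 3, 4] (sel (ones 23256) ip2 5) = true := by decide +kernel

theorem rot2_5r : band (Rule.ok (2 * 1) EX RL ⟨2 :: [3, 5, 4, 4, 3, 4], [], 10, true⟩) (lall (memL L) [3, 5, 4, 4, 3, 4]) = true := by decide +kernel

theorem rot2_6 : T.rot 2 [6, 5, 7, 6, 7, 7] (sel (ones 23256) ip2 6) = true := by decide +kernel

theorem rot2_6r : band (Rule.ok (2 * 1) EX RL ⟨2 :: [6, 5, 7, 6, 7, 7], [3, 5, 2], 10, false⟩) (lall (memL L) [6, 5, 7, 6, 7, 7]) = true := by decide +kernel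

theorem rot2_7 : T.rot 2 [4, 4, 4, 3, 5, 3] (sel (ones 23256) ip2 7) = true := by decide +kernel

theorem rot2_7r : band (Rule.ok (2 * 1) EX RL ⟨2 :: [4, 4, 4, 3, 5, 3], [], 11, true⟩) (lall (memL L) [4, 4, 4, 3, 5, 3]) = true := by decide +kernel

theorem rot2_8 : T.rot 2 [6, 7, 7, 7, 5, 6] (sel (ones 23256) ip2 8) = true := by decide +kernel

theorem rot2_8r : band (Rule.ok (2 * 1) EX RL ⟨2 :: [6, 7, 7, 7, 5, 6], [4], 11, false⟩) (lall (memL L) [6, 7, 7, 7, 5, 6]) = true := by decide +kernel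

theorem rot2_9 : T.rot 2 [3, 5, 6, 2, 6, 5, 3] (sel (ones 23256) ip2 9) = true := by decide +kernel

theorem rot2_9r : band (Rule.ok (2 * 1) EX RL ⟨2 :: [3, 5, 6, 2, 6, 5, 3], [5], 2, true⟩) (lall (memL L) [3, 5, 6, 2, 6, 5, 3]) = true := by decide +kernel

theorem rot2_10 : T.rot 2 [6, 5, 3, 2, 3, 5, 6] (sel (ones 23256) ip2 10) = true := by decide +kernel

theorem rot2_10r : band (Rule.ok (2 * 1) EX RL ⟨2 :: [6, 5, 3, 2, 3, 5, 6], [5, 2], 3, false⟩) (lall (memL L) [6, 5, 3, 2, 3, 5, 6]) = true := by decide +kernel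

theorem rot2_11 : T.rot 2 [3, 5, 3, 2, 6, 5, 6] (sel (ones 23256) ip2 11) = true := by decide +kernel

theorem rot2_11r : band (Rule.ok (2 * 1) EX RL ⟨2 :: [3, 5, 3, 2, 6, 5, 6], [], 2, false⟩) (lall (memL L) [3, 5, 3, 2, 6, 5, 6]) = true := by decide +kernel

theorem rot2_12 : T.rot 2 [6, 5, 6, 2, 3, 5, 3] (sel (ones 23256) ip2 12) = true := by decide +kernel

theorem rot2_12r : band (Rule.ok (2 * 1) EX RL ⟨2 :: [6, 5, 6, 2, 3, 5, 3], [5, 2, 5], 3, true⟩) (lall (memL L) [6, 5, 6, 2, 3, 5, 3]) = true := by decide +kernel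

theorem rot2_13 : T.rot 2 [4, 3, 7, 5, 4, 3, 7] (sel (ones 23256) ip2 13) = true := by decide +kernel

theorem rot2_13r : band (Rule.ok (2 * 1) EX RL ⟨2 :: [4, 3, 7, 5, 4, 3, 7], [5, 6], 13, true⟩) (lall (memL L) [4, 3, 7, 5, 4, 3, 7]) = true := by decide +kernel

theorem rot2_14 : T.rot 2 [4, 6, 7, 5, 4, 6, 7] (sel (ones 23256) ip2 14) = true := by decide +kernel

theorem rot2_14r : band (Rule.ok (2 * 1) EX RL ⟨2 :: [4, 6, 7, 5, 4, 6, 7], [6], 13, false⟩) (lall (memL L) [4, 6, 7, 5, 4, 6, 7]) = true := by decide +kernel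

theorem rot2_15 : T.rot 2 [4, 2, 7, 5, 5, 4, 3] (sel (ones 23256) ip2 15) = true := by decide +kernel

theorem rot2_15r : band (Rule.ok (2 * 1) EX RL ⟨2 :: [4, 2, 7, 5, 5, 4, 3], [], 15, true⟩) (lall (memL L) [4, 2, 7, 5, 5, 4, 3]) = true := by decide +kernel

theorem rot2_16 : T.rot 2 [7, 5, 5, 4, 3, 2, 4] (sel (ones 23256) ip2 16) = true := by decide +kernel

theorem rot2_16r : band (Rule.ok (2 * 1) EX RL ⟨2 :: [7, 5, 5, 4, 3, 2, 4], [3, 7], 15, true⟩) (lall (memL L) [7, 5, 5, 4, 3, 2, 4]) = true := by decide +kernel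

theorem rot2_17 : T.rot 2 [2, 4, 5, 7, 5, 6, 7] (sel (ones 23256) ip2 17) = true := by decide +kernel

theorem rot2_17r : band (Rule.ok (2 * 1) EX RL ⟨2 :: [2, 4, 5, 7, 5, 6, 7], [4, 6], 15, false⟩) (lall (memL L) [2, 4, 5, 7, 5, 6, 7]) = true := by decide +kernel

theorem rot2_18 : T.rot 2 [4, 5, 7, 5, 6, 7, 2] (sel (ones 23256) ip2 18) = true := by decide +kernel

theorem rot2_18r : band (Rule.ok (2 * 1) EX RL ⟨2 :: [4, 5, 7, 5, 6, 7, 2], [4, 6, 3], 15, false⟩) (lall (memL L) [4, 5, 7, 5, 6, 7, 2]) = true := by decide +kernel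

theorem rot2_19 : T.rot 2 [3, 5, 5, 3, 2, 2, 6, 5, 5, 6, 2] (sel (ones 23256) ip2 19) = true := by decide +kernel

theorem rot2_19r : band (Rule.ok (2 * 1) EX RL ⟨2 :: [3, 5, 5, 3, 2, 2, 6, 5, 5, 6, 2], [], 0, true⟩) (lall (memL L) [3, 5, 5, 3, 2, 2, 6, 5, 5, 6, 2]) = true := by decide +kernel

theorem rot2_20 : T.rot 2 [2, 6, 5, 5, 6, 2, 2, 3, 5, 5, 3] (sel (ones 23256) ip2 20) = true := by decide +kernel

theorem rot2_20r : band (Rule.ok (2 * 1) EX RL ⟨2 :: [2, 6, 5, 5, 6, 2, 2, 3, 5, 5, 3], [3, 5, 2, 2, 5], 0, true⟩) (lall (memL L) [2, 6, 5, 5, 6, 2, 2, 3, 5, 5, 3]) = true := by decide +kernel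

theorem rot2_21 : T.rot 2 [6, 5, 5, 6, 2, 2, 3, 5, 5, 3, 2] (sel (ones 23256) ip2 21) = true := by decide +kernel

theorem rot2_21r : band (Rule.ok (2 * 1) EX RL ⟨2 :: [6, 5, 5, 6, 2, 2, 3, 5, 5, 3, 2], [2, 5, 3, 3, 5, 2], 0, true⟩) (lall (memL L) [6, 5, 5, 6, 2, 2, 3, 5, 5, 3, 2]) = true := by decide +kernel

theorem rot2_22 : T.rot 2 [2, 3, 5, 5, 3, 2, 2, 6, 5, 5, 6] (sel (ones 23256) ip2 22) = true := by decide +kernel

theorem rot2_22r : band (Rule.ok (2 * 1) EX RL ⟨2 :: [2, 3, 5, 5, 3, 2, 2, 6, 5, 5, 6], [2], 0, true⟩) (lall (memL L) [2, 3, 5, 5, 3, 2, 2, 6, 5, 5, 6]) = true := by decide +kernel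

theorem rot2_23 : T.rot 2 [2, 3, 5, 5, 6, 2, 2, 6, 5, 5, 3] (sel (ones 23256) ip2 23) = true := by decide +kernel

theorem rot2_23r : band (Rule.ok (2 * 1) EX RL ⟨2 :: [2, 3, 5, 5, 6, 2, 2, 6, 5, 5, 3], [2, 5], 0, false⟩) (lall (memL L) [2, 3, 5, 5, 6, 2, 2, 6, 5, 5, 3]) = true := by decide +kernel

theorem rot2_24 : T.rot 2 [3, 5, 5, 6, 2, 2, 6, 5, 5, 3, 2] (sel (ones 23256) ip2 24) = true := by decide +kernel

theorem rot2_24r : band (Rule.ok (2 * 1) EX RL ⟨2 :: [3, 5, 5, 6, 2, 2, 6, 5, 5, 3, 2], [2, 5, 3], 0, false⟩) (lall (memL L) [3, 5, 5, 6, 2, 2, 6, 5, 5, 3, 2]) = true := by decide +kernel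

theorem rot2_25 : T.rot 2 [2, 6, 5, 5, 3, 2, 2, 3, 5, 5, 6] (sel (ones 23256) ip2 25) = true := by decide +kernel

theorem rot2_25r : band (Rule.ok (2 * 1) EX RL ⟨2 :: [2, 6, 5, 5, 3, 2, 2, 3, 5, 5, 6], [3, 5, 2, 2], 0, false⟩) (lall (memL L) [2, 6, 5, 5, 3, 2, 2, 3, 5, 5, 6]) = true := by decide +kernel

theorem rot2_26 : T.rot 2 [6, 5, 5, 3, 2, 2, 3, 5, 5, 6, 2] (sel (ones 23256) ip2 26) = true := by decide +kernel

theorem rot2_26r : band (Rule.ok (2 * 1) EX RL ⟨2 :: [6, 5, 5, 3, 2, 2, 3, 5, 5, 6, 2], [3, 5, 2], 0, false⟩) (lall (memL L) [6, 5, 5, 3, 2, 2, 3, 5, 5, 6, 2]) = true := by decide +kernel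

theorem rot2_27 : T.rot 2 [3, 1, 5, 3, 2, 1, 3, 5, 6, 1, 6] (sel (ones 23256) ip2 27) = true := by decide +kernel

theorem rot2_27r : band (Rule.ok (2 * 1) EX RL ⟨2 :: [3, 1, 5, 3, 2, 1, 3, 5, 6, 1, 6], [2, 4, 3, 0, 4, 2], 8, true⟩) (lall (memL L) [3, 1, 5, 3, 2, 1, 3, 5, 6, 1, 6]) = true := by decide +kernel

theorem rot2_28 : T.rot 2 [1, 3, 5, 6, 1, 6, 2, 3, 1, 5, 3] (sel (ones 23256) ip2 28) = true := by decide +kernel

theorem rot2_28r : band (Rule.ok (2 * 1) EX RL ⟨2 :: [1, 3, 5, 6, 1, 6, 2, 3, 1, 5, 3], [2], 8, true⟩) (lall (memL L) [1, 3, 5, 6, 1, 6, 2, 3, 1, 5, 3]) = true := by decide +kernel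

theorem rot2_29 : T.rot 2 [1, 6, 5, 3, 1, 3, 2, 6, 1, 5, 6] (sel (ones 23256) ip2 29) = true := by decide +kernel

theorem rot2_29r : band (Rule.ok (2 * 1) EX RL ⟨2 :: [1, 6, 5, 3, 1, 3, 2, 6, 1, 5, 6], [2, 4], 8, false⟩) (lall (memL L) [1, 6, 5, 3, 1, 3, 2, 6, 1, 5, 6]) = true := by decide +kernel

theorem rot2_30 : T.rot 2 [6, 1, 5, 6, 2, 1, 6, 5, 3, 1, 3] (sel (ones 23256) ip2 30) = true := by decide +kernel

theorem rot2_30r : band (Rule.ok (2 * 1) EX RL ⟨2 :: [6, 1, 5, 6, 2, 1, 6, 5, 3, 1, 3], [0, 5, 2], 8, false⟩) (lall (memL L) [6, 1, 5, 6, 2, 1, 6, 5, 3, 1, 3]) = true := by decide +kernel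

theorem rot2_31 : T.rot 2 [2, 6, 5, 1, 3, 1, 3, 1, 3, 1, 5, 3] (sel (ones 23256) ip2 31) = true := by decide +kernel

theorem rot2_31r : band (Rule.ok (2 * 1) EX RL ⟨2 :: [2, 6, 5, 1, 3, 1, 3, 1, 3, 1, 5, 3], [3, 5, 2, 2], 7, true⟩) (lall (memL L) [2, 6, 5, 1, 3, 1, 3, 1, 3, 1, 5, 3]) = true := by decide +kernel

theorem rot2_32 : T.rot 2 [6, 5, 1, 3, 1, 3, 1, 3, 1, 5, 3, 2] (sel (ones 23256) ip2 32) = true := by decide +kernel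

theorem rot2_32r : band (Rule.ok (2 * 1) EX RL ⟨2 :: [6, 5, 1, 3, 1, 3, 1, 3, 1, 5, 3, 2], [3, 5, 2], 7, true⟩) (lall (memL L) [6, 5, 1, 3, 1, 3, 1, 3, 1, 5, 3, 2]) = true := by decide +kernel

theorem rot2_33 : T.rot 2 [3, 5, 5, 6, 2, 1, 6, 1, 6, 1, 6, 1] (sel (ones 23256) ip2 33) = true := by decide +kernel

theorem rot2_33r : band (Rule.ok (2 * 1) EX RL ⟨2 :: [3, 5, 5, 6, 2, 1, 6, 1, 6, 1, 6, 1], [], 7, false⟩) (lall (memL L) [3, 5, 5, 6, 2, 1, 6, 1, 6, 1, 6, 1]) = true := by decide +kernel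

theorem rot2_34 : T.rot 2 [1, 6, 1, 6, 1, 6, 1, 2, 3, 5, 5, 6] (sel (ones 23256) ip2 34) = true := by decide +kernel

theorem rot2_34r : band (Rule.ok (2 * 1) EX RL ⟨2 :: [1, 6, 1, 6, 1, 6, 1, 2, 3, 5, 5, 6], [3, 5, 2, 2, 4], 7, false⟩) (lall (memL L) [1, 6, 1, 6, 1, 6, 1, 2, 3, 5, 5, 6]) = true := by decide +kernel

theorem rot2_35 : T.rot 2 [2, 2, 2, 4, 1, 4, 4, 1, 4, 4, 1, 4, 4, 1, 4, 1] (sel (ones 23256) ip2 35) = true := by decide +kernel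

theorem rot2_35r : band (Rule.ok (2 * 1) EX RL ⟨2 :: [2, 2, 2, 4, 1, 4, 4, 1, 4, 4, 1, 4, 4, 1, 4, 1], [0], 17, false⟩) (lall (memL L) [2, 2, 2, 4, 1, 4, 4, 1, 4, 4, 1, 4, 4, 1, 4, 1]) = true := by decide +kernel

theorem rot2_36 : T.rot 2 [2, 2, 4, 1, 4, 4, 1, 4, 4, 1, 4, 4, 1, 4, 1, 2] (sel (ones 23256) ip2 36) = true := by decide +kernel

theorem rot2_36r : band (Rule.ok (2 * 1) EX RL ⟨2 :: [2, 2, 4, 1, 4, 4, 1, 4, 4, 1, 4, 4, 1, 4, 1, 2], [0, 3], 17, false⟩) (lall (memL L) [2, 2, 4, 1, 4, 4, 1, 4, 4, 1, 4, 4, 1, 4, 1, 2]) = true := by decide +kernel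

theorem rot2_37 : T.rot 2 [2, 4, 1, 4, 4, 1, 4, 4, 1, 4, 4, 1, 4, 1, 2, 2] (sel (ones 23256) ip2 37) = true := by decide +kernel

theorem rot2_37r : band (Rule.ok (2 * 1) EX RL ⟨2 :: [2, 4, 1, 4, 4, 1, 4, 4, 1, 4, 4, 1, 4, 1, 2, 2], [0, 3, 3], 17, false⟩) (lall (memL L) [2, 4, 1, 4, 4, 1, 4, 4, 1, 4, 4, 1, 4, 1, 2, 2]) = true := by decide +kernel

theorem rot2_38 : T.rot 2 [4, 1, 4, 4, 1, 4, 4, 1, 4, 4, 1, 4, 1, 2, 2, 2] (sel (ones 23256) ip2 38) = true := by decide +kernel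

theorem rot2_38r : band (Rule.ok (2 * 1) EX RL ⟨2 :: [4, 1, 4, 4, 1, 4, 4, 1, 4, 4, 1, 4, 1, 2, 2, 2], [0, 3, 3, 3], 17, false⟩) (lall (memL L) [4, 1, 4, 4, 1, 4, 4, 1, 4, 4, 1, 4, 1, 2, 2, 2]) = true := by decide +kernel

theorem rot2_39 : T.rot 2 [4, 1, 6, 7, 1, 2, 4, 1, 7, 5, 1, 4, 3, 1, 6, 7, 1] (sel (ones 23256) ip2 39) = true := by decide +kernel

theorem rot2_39r : band (Rule.ok (2 * 1) EX RL ⟨2 :: [4, 1, 6, 7, 1, 2, 4, 1, 7, 5, 1, 4, 3, 1, 6, 7, 1], [6, 0], 18, true⟩) (lall (memL L) [4, 1, 6, 7, 1, 2, 4, 1, 7, 5, 1, 4, 3, 1, 6, 7, 1]) = true := by decide +kernel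

theorem rot2_40 : T.rot 2 [4, 1, 7, 5, 1, 4, 3, 1, 6, 7, 1, 2, 4, 1, 6, 7, 1] (sel (ones 23256) ip2 40) = true := by decide +kernel

theorem rot2_40r : band (Rule.ok (2 * 1) EX RL ⟨2 :: [4, 1, 7, 5, 1, 4, 3, 1, 6, 7, 1, 2, 4, 1, 6, 7, 1], [6, 0, 3, 7, 0, 4, 6, 0], 18, true⟩) (lall (memL L) [4, 1, 7, 5, 1, 4, 3, 1, 6, 7, 1, 2, 4, 1, 6, 7, 1]) = true := by decide +kernel

theorem rot2_41 : T.rot 2 [4, 1, 7, 5, 1, 4, 3, 1, 7, 5, 1, 4, 3, 1, 6, 7, 1] (sel (ones 23256) ip2 41) = true := by decide +kernel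

theorem rot2_41r : band (Rule.ok (2 * 1) EX RL ⟨2 :: [4, 1, 7, 5, 1, 4, 3, 1, 7, 5, 1, 4, 3, 1, 6, 7, 1], [5, 0, 4, 6, 0], 18, false⟩) (lall (memL L) [4, 1, 7, 5, 1, 4, 3, 1, 7, 5, 1, 4, 3, 1, 6, 7, 1]) = true := by decide +kernel

theorem cov2 : T.cover 2 [(sel (ones 23256) ip2 1), (sel (ones 23256) ip2 2), (sel (ones 23256) ip2 3), (sel (ones 23256) ip2 4), (sel (ones 23256) ip2 5), (sel (ones 23256) ip2 6), (sel (ones 23256) ip2 7), (sel (ones 23256) ip2 8), (sel (ones 23256) ip2 9), (sel (ones 23256) ip2 10), (sel (ones 23256) ip2 11), (sel (ones 23256) ip2 12), (sel (ones 23256) ip2 13), (sel (ones 23256) ip2 14), (sel (ones 23256) ip2 15), (sel (ones 23256) ip2 16), (sel (ones 23256) ip2 17), (sel (ones 23256) ip2 18), (sel (ones 23256) ip2 19), (sel (ones 23256) ip2 20), (sel (ones 23256) ip2 21), (sel (ones 23256) ip2 22), (sel (ones 23256) ip2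 23), (sel (ones 23256) ip2 24), (sel (ones 23256) ip2 25), (sel (ones 23256) ip2 26), (sel (ones 23256) ip2 27), (sel (ones 23256) ip2 28), (sel (ones 23256) ip2 29), (sel (ones 23256) ip2 30), (sel (ones 23256) ip2 31), (sel (ones 23256) ip2 32), (sel (ones 23256) ip2 33), (sel (ones 23256) ip2 34), (sel (ones 23256) ip2 35), (sel (ones 23256) ip2 36), (sel (ones 23256) ip2 37), (sel (ones 23256) ip2 38), (sel (ones 23256) ip2 39), (sel (ones 23256) ip2 40), (sel (ones 23256) ip2 41), 1] = true := by decide +kernel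

theorem tl2 : T.treeLt 15 2 = true := by decide +kernel

theorem rot3_1 : T.rot 3 [6] (sel (ones 23256) ip3 1) = true := by decide +kernel

theorem rot3_1r : band (Rule.ok (2 * 1) EX RL ⟨3 :: [6], [], 19, false⟩) (lall (memL L) [6]) = true := by decide +kernel

theorem rot3_2 : T.rot 3 [3, 3] (sel (ones 23256) ip3 2) = true := by decide +kernel

theorem rot3_2r : band (Rule.ok (2 * 1) EX RL ⟨3 :: [3, 3], [], 4, true⟩) (lall (memL L) [3, 3]) = true := by decide +kernel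

theorem rot3_3 : T.rot 3 [4, 4, 4, 5, 3, 2] (sel (ones 23256) ip3 3) = true := by decide +kernel

theorem rot3_3r : band (Rule.ok (2 * 1) EX RL ⟨3 :: [4, 4, 4, 5, 3, 2], [3], 9, true⟩) (lall (memL L) [4, 4, 4, 5, 3, 2]) = true := by decide +kernel

theorem rot3_4 : T.rot 3 [2, 3, 4, 4, 4, 5] (sel (ones 23256) ip3 4) = true := by decide +kernel

theorem rot3_4r : band (Rule.ok (2 * 1) EX RL ⟨3 :: [2, 3, 4, 4, 4, 5], [4], 9, true⟩) (lall (memL L) [2, 3, 4, 4, 4, 5]) = true := by decide +kernel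

theorem rot3_5 : T.rot 3 [5, 4, 4, 3, 4, 2] (sel (ones 23256) ip3 5) = true := by decide +kernel

theorem rot3_5r : band (Rule.ok (2 * 1) EX RL ⟨3 :: [5, 4, 4, 3, 4, 2], [3], 10, true⟩) (lall (memL L) [5, 4, 4, 3, 4, 2]) = true := by decide +kernel

theorem rot3_6 : T.rot 3 [4, 2, 3, 5, 4, 4] (sel (ones 23256) ip3 6) = true := by decide +kernel

theorem rot3_6r : band (Rule.ok (2 * 1) EX RL ⟨3 :: [4, 2, 3, 5, 4, 4], [6, 4], 10, true⟩) (lall (memL L) [4, 2, 3, 5, 4, 4]) = true := by decide +kernel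

theorem rot3_7 : T.rot 3 [5, 3, 2, 4, 4, 4] (sel (ones 23256) ip3 7) = true := by decide +kernel

theorem rot3_7r : band (Rule.ok (2 * 1) EX RL ⟨3 :: [5, 3, 2, 4, 4, 4], [4, 3, 4], 11, true⟩) (lall (memL L) [5, 3, 2, 4, 4, 4]) = true := by decide +kernel

theorem rot3_8 : T.rot 3 [2, 4, 4, 4, 3, 5] (sel (ones 23256) ip3 8) = true := by decide +kernel

theorem rot3_8r : band (Rule.ok (2 * 1) EX RL ⟨3 :: [2, 4, 4, 4, 3, 5], [4], 11, true⟩) (lall (memL L) [2, 4, 4, 4, 3, 5]) = true := by decide +kernel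

theorem rot3_9 : T.rot 3 [2, 3, 5, 6, 2, 6, 5] (sel (ones 23256) ip3 9) = true := by decide +kernel

theorem rot3_9r : band (Rule.ok (2 * 1) EX RL ⟨3 :: [2, 3, 5, 6, 2, 6, 5], [], 2, true⟩) (lall (memL L) [2, 3, 5, 6, 2, 6, 5]) = true := by decide +kernel

theorem rot3_10 : T.rot 3 [5, 6, 2, 6, 5, 3, 2] (sel (ones 23256) ip3 10) = true := by decide +kernel

theorem rot3_10r : band (Rule.ok (2 * 1) EX RL ⟨3 :: [5, 6, 2, 6, 5, 3, 2], [5, 3], 2, true⟩) (lall (memL L) [5, 6, 2, 6, 5, 3, 2]) = true := by decide +kernel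

theorem rot3_11 : T.rot 3 [5, 3, 2, 6, 5, 6, 2] (sel (ones 23256) ip3 11) = true := by decide +kernel

theorem rot3_11r : band (Rule.ok (2 * 1) EX RL ⟨3 :: [5, 3, 2, 6, 5, 6, 2], [], 3, true⟩) (lall (memL L) [5, 3, 2, 6, 5, 6, 2]) = true := by decide +kernel

theorem rot3_12 : T.rot 3 [2, 6, 5, 6, 2, 3, 5] (sel (ones 23256) ip3 12) = true := by decide +kernel

theorem rot3_12r : band (Rule.ok (2 * 1) EX RL ⟨3 :: [2, 6, 5, 6, 2, 3, 5], [5, 2], 3, true⟩) (lall (memL L) [2, 6, 5, 6, 2, 3, 5]) = true := by decide +kernel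

theorem rot3_13 : T.rot 3 [7, 1, 4, 6, 7, 1, 4] (sel (ones 23256) ip3 13) = true := by decide +kernel

theorem rot3_13r : band (Rule.ok (2 * 1) EX RL ⟨3 :: [7, 1, 4, 6, 7, 1, 4], [], 12, true⟩) (lall (memL L) [7, 1, 4, 6, 7, 1, 4]) = true := by decide +kernel

theorem rot3_14 : T.rot 3 [7, 2, 4, 3, 7, 5, 4] (sel (ones 23256) ip3 14) = true := by decide +kernel

theorem rot3_14r : band (Rule.ok (2 * 1) EX RL ⟨3 :: [7, 2, 4, 3, 7, 5, 4], [], 13, true⟩) (lall (memL L) [7, 2, 4, 3, 7, 5, 4]) = true := by decide +kernel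

theorem rot3_15 : T.rot 3 [7, 5, 4, 3, 7, 2, 4] (sel (ones 23256) ip3 15) = true := by decide +kernel

theorem rot3_15r : band (Rule.ok (2 * 1) EX RL ⟨3 :: [7, 5, 4, 3, 7, 2, 4], [6, 3, 7, 4], 13, true⟩) (lall (memL L) [7, 5, 4, 3, 7, 2, 4]) = true := by decide +kernel

theorem rot3_16 : T.rot 3 [2, 4, 2, 7, 5, 5, 4] (sel (ones 23256) ip3 16) = true := by decide +kernel

theorem rot3_16r : band (Rule.ok (2 * 1) EX RL ⟨3 :: [2, 4, 2, 7, 5, 5, 4], [4], 15, true⟩) (lall (memL L) [2, 4, 2, 7, 5, 5, 4]) = true := by decide +kernel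

theorem rot3_17 : T.rot 3 [5, 2, 3, 5, 2, 3, 5, 2] (sel (ones 23256) ip3 17) = true := by decide +kernel

theorem rot3_17r : band (Rule.ok (2 * 1) EX RL ⟨3 :: [5, 2, 3, 5, 2, 3, 5, 2], [], 4, true⟩) (lall (memL L) [5, 2, 3, 5, 2, 3, 5, 2]) = true := by decide +kernel

theorem rot3_18 : T.rot 3 [2, 5, 3, 2, 5, 3, 2, 5] (sel (ones 23256) ip3 18) = true := by decide +kernel

theorem rot3_18r : band (Rule.ok (2 * 1) EX RL ⟨3 :: [2, 5, 3, 2, 5, 3, 2, 5], [], 4, true⟩) (lall (memL L) [2, 5, 3, 2, 5, 3, 2, 5]) = true := by decide +kernel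

theorem rot3_19 : T.rot 3 [7, 1, 7, 3, 4, 3, 1, 4] (sel (ones 23256) ip3 19) = true := by decide +kernel

theorem rot3_19r : band (Rule.ok (2 * 1) EX RL ⟨3 :: [7, 1, 7, 3, 4, 3, 1, 4], [], 14, false⟩) (lall (memL L) [7, 1, 7, 3, 4, 3, 1, 4]) = true := by decide +kernel

theorem rot3_20 : T.rot 3 [4, 3, 1, 4, 3, 7, 1, 7] (sel (ones 23256) ip3 20) = true := by decide +kernel

theorem rot3_20r : band (Rule.ok (2 * 1) EX RL ⟨3 :: [4, 3, 1, 4, 3, 7, 1, 7], [5, 6, 0, 6], 14, false⟩) (lall (memL L) [4, 3, 1, 4, 3, 7, 1, 7]) = true := by decide +kernel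

theorem rot3_21 : T.rot 3 [1, 4, 3, 7, 1, 7, 3, 4] (sel (ones 23256) ip3 21) = true := by decide +kernel

theorem rot3_21r : band (Rule.ok (2 * 1) EX RL ⟨3 :: [1, 4, 3, 7, 1, 7, 3, 4], [6, 0, 4], 14, false⟩) (lall (memL L) [1, 4, 3, 7, 1, 7, 3, 4]) = true := by decide +kernel

theorem rot3_22 : T.rot 3 [5, 5, 3, 2, 2, 6, 5, 5, 6, 2, 2] (sel (ones 23256) ip3 22) = true := by decide +kernel

theorem rot3_22r : band (Rule.ok (2 * 1) EX RL ⟨3 :: [5, 5, 3, 2, 2, 6, 5, 5, 6, 2, 2], [3], 0, true⟩) (lall (memL L) [5, 5, 3, 2, 2, 6, 5, 5, 6, 2, 2]) = true := by decide +kernel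

theorem rot3_23 : T.rot 3 [2, 2, 6, 5, 5, 6, 2, 2, 3, 5, 5] (sel (ones 23256) ip3 23) = true := by decide +kernel

theorem rot3_23r : band (Rule.ok (2 * 1) EX RL ⟨3 :: [2, 2, 6, 5, 5, 6, 2, 2, 3, 5, 5], [3, 5, 2, 2], 0, true⟩) (lall (memL L) [2, 2, 6, 5, 5, 6, 2, 2, 3, 5, 5]) = true := by decide +kernel

theorem rot3_24 : T.rot 3 [2, 2, 3, 5, 5, 6, 2, 2, 6, 5, 5] (sel (ones 23256) ip3 24) = true := by decide +kernel

theorem rot3_24r : band (Rule.ok (2 * 1) EX RL ⟨3 :: [2, 2, 3, 5, 5, 6, 2, 2, 6, 5, 5], [2], 0, false⟩) (lall (memL L) [2, 2, 3, 5, 5, 6, 2, 2, 6, 5, 5]) = true := by decide +kernel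

theorem rot3_25 : T.rot 3 [5, 5, 6, 2, 2, 6, 5, 5, 3, 2, 2] (sel (ones 23256) ip3 25) = true := by decide +kernel

theorem rot3_25r : band (Rule.ok (2 * 1) EX RL ⟨3 :: [5, 5, 6, 2, 2, 6, 5, 5, 3, 2, 2], [2, 5, 3, 3], 0, false⟩) (lall (memL L) [5, 5, 6, 2, 2, 6, 5, 5, 3, 2, 2]) = true := by decide +kernel

theorem rot3_26 : T.rot 3 [5, 6, 1, 6, 2, 3, 1, 5, 3, 2, 1] (sel (ones 23256) ip3 26) = true := by decide +kernel

theorem rot3_26r : band (Rule.ok (2 * 1) EX RL ⟨3 :: [5, 6, 1, 6, 2, 3, 1, 5, 3, 2, 1], [0], 8, true⟩) (lall (memL L) [5, 6, 1, 6, 2, 3, 1, 5, 3, 2, 1]) = true := by decide +kernel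

theorem rot3_27 : T.rot 3 [1, 5, 3, 2, 1, 3, 5, 6, 1, 6, 2] (sel (ones 23256) ip3 27) = true := by decide +kernel

theorem rot3_27r : band (Rule.ok (2 * 1) EX RL ⟨3 :: [1, 5, 3, 2, 1, 3, 5, 6, 1, 6, 2], [2, 4, 3, 0, 4], 8, true⟩) (lall (memL L) [1, 5, 3, 2, 1, 3, 5, 6, 1, 6, 2]) = true := by decide +kernel

theorem rot3_28 : T.rot 3 [2, 1, 3, 5, 6, 1, 6, 2, 3, 1, 5] (sel (ones 23256) ip3 28) = true := by decide +kernel

theorem rot3_28r : band (Rule.ok (2 * 1) EX RL ⟨3 :: [2, 1, 3, 5, 6, 1, 6, 2, 3, 1, 5], [2, 4], 8, true⟩) (lall (memL L) [2, 1, 3, 5, 6, 1, 6, 2, 3, 1, 5]) = true := by decide +kernel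

theorem rot3_29 : T.rot 3 [1, 3, 2, 6, 1, 5, 6, 2, 1, 6, 5] (sel (ones 23256) ip3 29) = true := by decide +kernel

theorem rot3_29r : band (Rule.ok (2 * 1) EX RL ⟨3 :: [1, 3, 2, 6, 1, 5, 6, 2, 1, 6, 5], [0, 5, 2, 4, 0, 4], 8, false⟩) (lall (memL L) [1, 3, 2, 6, 1, 5, 6, 2, 1, 6, 5]) = true := by decide +kernel

theorem rot3_30 : T.rot 3 [2, 6, 1, 5, 6, 2, 1, 6, 5, 3, 1] (sel (ones 23256) ip3 30) = true := by decide +kernel

theorem rot3_30r : band (Rule.ok (2 * 1) EX RL ⟨3 :: [2, 6, 1, 5, 6, 2, 1, 6, 5, 3, 1], [0, 5, 2, 4], 8, false⟩) (lall (memL L) [2, 6, 1, 5, 6, 2, 1, 6, 5, 3, 1]) = true := by decide +kernel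

theorem rot3_31 : T.rot 3 [1, 3, 1, 3, 1, 5, 3, 2, 2, 6, 5, 1] (sel (ones 23256) ip3 31) = true := by decide +kernel

theorem rot3_31r : band (Rule.ok (2 * 1) EX RL ⟨3 :: [1, 3, 1, 3, 1, 5, 3, 2, 2, 6, 5, 1], [0], 7, true⟩) (lall (memL L) [1, 3, 1, 3, 1, 5, 3, 2, 2, 6, 5, 1]) = true := by decide +kernel

theorem rot3_32 : T.rot 3 [1, 3, 1, 5, 3, 2, 2, 6, 5, 1, 3, 1] (sel (ones 23256) ip3 32) = true := by decide +kernel

theorem rot3_32r : band (Rule.ok (2 * 1) EX RL ⟨3 :: [1, 3, 1, 5, 3, 2, 2, 6, 5, 1, 3, 1], [0, 5, 0], 7, true⟩) (lall (memL L) [1, 3, 1, 5, 3, 2, 2, 6, 5, 1, 3, 1]) = true := by decide +kernel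

theorem rot3_33 : T.rot 3 [1, 5, 3, 2, 2, 6, 5, 1, 3, 1, 3, 1] (sel (ones 23256) ip3 33) = true := by decide +kernel

theorem rot3_33r : band (Rule.ok (2 * 1) EX RL ⟨3 :: [1, 5, 3, 2, 2, 6, 5, 1, 3, 1, 3, 1], [0, 5, 0, 5, 0], 7, true⟩) (lall (memL L) [1, 5, 3, 2, 2, 6, 5, 1, 3, 1, 3, 1]) = true := by decide +kernel

theorem rot3_34 : T.rot 3 [2, 2, 6, 5, 1, 3, 1, 3, 1, 3, 1, 5] (sel (ones 23256) ip3 34) = true := by decide +kernel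

theorem rot3_34r : band (Rule.ok (2 * 1) EX RL ⟨3 :: [2, 2, 6, 5, 1, 3, 1, 3, 1, 3, 1, 5], [3, 5, 2, 2, 4], 7, true⟩) (lall (memL L) [2, 2, 6, 5, 1, 3, 1, 3, 1, 3, 1, 5]) = true := by decide +kernel

theorem rot3_35 : T.rot 3 [5, 5, 6, 2, 1, 6, 1, 6, 1, 6, 1, 2] (sel (ones 23256) ip3 35) = true := by decide +kernel

theorem rot3_35r : band (Rule.ok (2 * 1) EX RL ⟨3 :: [5, 5, 6, 2, 1, 6, 1, 6, 1, 6, 1, 2], [3], 7, false⟩) (lall (memL L) [5, 5, 6, 2, 1, 6, 1, 6, 1, 6, 1, 2]) = true := by decide +kernel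

theorem rot3_36 : T.rot 3 [1, 6, 7, 1, 2, 4, 1, 6, 7, 1, 2, 4, 1, 7, 5, 1, 4] (sel (ones 23256) ip3 36) = true := by decide +kernel

theorem rot3_36r : band (Rule.ok (2 * 1) EX RL ⟨3 :: [1, 6, 7, 1, 2, 4, 1, 6, 7, 1, 2, 4, 1, 7, 5, 1, 4], [5, 0, 4], 18, true⟩) (lall (memL L) [1, 6, 7, 1, 2, 4, 1, 6, 7, 1, 2, 4, 1, 7, 5, 1, 4]) = true := by decide +kernel

theorem rot3_37 : T.rot 3 [1, 6, 7, 1, 2, 4, 1, 7, 5, 1, 4, 3, 1, 7, 5, 1, 4] (sel (ones 23256) ip3 37) = true := by decide +kernel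

theorem rot3_37r : band (Rule.ok (2 * 1) EX RL ⟨3 :: [1, 6, 7, 1, 2, 4, 1, 7, 5, 1, 4, 3, 1, 7, 5, 1, 4], [], 18, false⟩) (lall (memL L) [1, 6, 7, 1, 2, 4, 1, 7, 5, 1, 4, 3, 1, 7, 5, 1, 4]) = true := by decide +kernel

theorem rot3_38 : T.rot 3 [1, 7, 5, 1, 4, 3, 1, 6, 7, 1, 2, 4, 1, 7, 5, 1, 4] (sel (ones 23256) ip3 38) = true := by decide +kernel

theorem rot3_38r : band (Rule.ok (2 * 1) EX RL ⟨3 :: [1, 7, 5, 1, 4, 3, 1, 6, 7, 1, 2, 4, 1, 7, 5, 1, 4], [6, 0, 3, 7, 0, 4], 18, false⟩) (lall (memL L) [1, 7, 5, 1, 4, 3, 1, 6, 7, 1, 2, 4, 1, 7, 5, 1, 4]) = true := by decide +kernel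

theorem cov3 : T.cover 3 [(sel (ones 23256) ip3 1), (sel (ones 23256) ip3 2), (sel (ones 23256) ip3 3), (sel (ones 23256) ip3 4), (sel (ones 23256) ip3 5), (sel (ones 23256) ip3 6), (sel (ones 23256) ip3 7), (sel (ones 23256) ip3 8), (sel (ones 23256) ip3 9), (sel (ones 23256) ip3 10), (sel (ones 23256) ip3 11), (sel (ones 23256) ip3 12), (sel (ones 23256) ip3 13), (sel (ones 23256) ip3 14), (sel (ones 23256) ip3 15), (sel (ones 23256) ip3 16), (sel (ones 23256) ip3 17), (sel (ones 23256) ip3 18), (sel (ones 23256) ip3 19), (sel (ones 23256) ip3 20), (sel (ones 23256) ip3 21), (sel (ones 23256) ip3 22), (sel (ones 23256) ip3 23), (sel (ones 23256) ip3 24), (sel (ones 23256) ip3 25), (sel (ones 23256) ip3 26), (sel (ones 23256) ip3 27), (sel (ones 23256) ip3 28), (sel (ones 23256) ip3 29), (sel (ones 23256) ip3 30), (sel (ones 23256) ip3 31), (sel (ones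 23256) ip3 32), (sel (ones 23256) ip3 33), (sel (ones 23256) ip3 34), (sel (ones 23256) ip3 35), (sel (ones 23256) ip3 36), (sel (ones 23256) ip3 37), (sel (ones 23256) ip3 38), 1] = true := by decide +kernel

theorem tl3 : T.treeLt 15 3 = true := by decide +kernel

theorem rot4_1 : T.rot 4 [7] (sel (ones 23256) ip4 1) = true := by decide +kernel

theorem rot4_1r : band (Rule.ok (2 * 1) EX RL ⟨4 :: [7], [], 19, false⟩) (lall (memL L) [7]) = true := by decide +kernel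

theorem rot4_2 : T.rot 4 [4, 4, 5, 3, 2, 3] (sel (ones 23256) ip4 2) = true := by decide +kernel

theorem rot4_2r : band (Rule.ok (2 * 1) EX RL ⟨4 :: [4, 4, 5, 3, 2, 3], [3, 5], 9, true⟩) (lall (memL L) [4, 4, 5, 3, 2, 3]) = true := by decide +kernel

theorem rot4_3 : T.rot 4 [4, 5, 3, 2, 3, 4] (sel (ones 23256) ip4 3) = true := by decide +kernel

theorem rot4_3r : band (Rule.ok (2 * 1) EX RL ⟨4 :: [4, 5, 3, 2, 3, 4], [3, 5, 7], 9, true⟩) (lall (memL L) [4, 5, 3, 2, 3, 4]) = true := by decide +kernel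

theorem rot4_4 : T.rot 4 [5, 3, 2, 3, 4, 4] (sel (ones 23256) ip4 4) = true := by decide +kernel

theorem rot4_4r : band (Rule.ok (2 * 1) EX RL ⟨4 :: [5, 3, 2, 3, 4, 4], [4, 3, 6], 9, true⟩) (lall (memL L) [5, 3, 2, 3, 4, 4]) = true := by decide +kernel

theorem rot4_5 : T.rot 4 [4, 3, 4, 2, 3, 5] (sel (ones 23256) ip4 5) = true := by decide +kernel

theorem rot4_5r : band (Rule.ok (2 * 1) EX RL ⟨4 :: [4, 3, 4, 2, 3, 5], [3, 5, 2], 10, true⟩) (lall (memL L) [4, 3, 4, 2, 3, 5]) = true := by decide +kernel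

theorem rot4_6 : T.rot 4 [3, 4, 2, 3, 5, 4] (sel (ones 23256) ip4 6) = true := by decide +kernel

theorem rot4_6r : band (Rule.ok (2 * 1) EX RL ⟨4 :: [3, 4, 2, 3, 5, 4], [6, 4, 6], 10, true⟩) (lall (memL L) [3, 4, 2, 3, 5, 4]) = true := by decide +kernel

theorem rot4_7 : T.rot 4 [2, 3, 5, 4, 4, 3] (sel (ones 23256) ip4 7) = true := by decide +kernel

theorem rot4_7r : band (Rule.ok (2 * 1) EX RL ⟨4 :: [2, 3, 5, 4, 4, 3], [6], 10, true⟩) (lall (memL L) [2, 3, 5, 4, 4, 3]) = true := by decide +kernel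

theorem rot4_8 : T.rot 4 [4, 4, 3, 5, 3, 2] (sel (ones 23256) ip4 8) = true := by decide +kernel

theorem rot4_8r : band (Rule.ok (2 * 1) EX RL ⟨4 :: [4, 4, 3, 5, 3, 2], [3], 11, true⟩) (lall (memL L) [4, 4, 3, 5, 3, 2]) = true := by decide +kernel

theorem rot4_9 : T.rot 4 [4, 3, 5, 3, 2, 4] (sel (ones 23256) ip4 9) = true := by decide +kernel

theorem rot4_9r : band (Rule.ok (2 * 1) EX RL ⟨4 :: [4, 3, 5, 3, 2, 4], [3, 7], 11, true⟩) (lall (memL L) [4, 3, 5, 3, 2, 4]) = true := by decide +kernel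

theorem rot4_10 : T.rot 4 [3, 5, 3, 2, 4, 4] (sel (ones 23256) ip4 10) = true := by decide +kernel

theorem rot4_10r : band (Rule.ok (2 * 1) EX RL ⟨4 :: [3, 5, 3, 2, 4, 4], [3, 7, 7], 11, true⟩) (lall (memL L) [3, 5, 3, 2, 4, 4]) = true := by decide +kernel

theorem rot4_11 : T.rot 4 [6, 7, 1, 4, 3, 7, 1] (sel (ones 23256) ip4 11) = true := by decide +kernel

theorem rot4_11r : band (Rule.ok (2 * 1) EX RL ⟨4 :: [6, 7, 1, 4, 3, 7, 1], [5, 6], 12, false⟩) (lall (memL L) [6, 7, 1, 4, 3, 7, 1]) = true := by decide +kernel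

theorem rot4_12 : T.rot 4 [3, 7, 1, 4, 6, 7, 1] (sel (ones 23256) ip4 12) = true := by decide +kernel

theorem rot4_12r : band (Rule.ok (2 * 1) EX RL ⟨4 :: [3, 7, 1, 4, 6, 7, 1], [6], 12, true⟩) (lall (memL L) [3, 7, 1, 4, 6, 7, 1]) = true := by decide +kernel

theorem rot4_13 : T.rot 4 [3, 7, 5, 4, 3, 7, 2] (sel (ones 23256) ip4 13) = true := by decide +kernel

theorem rot4_13r : band (Rule.ok (2 * 1) EX RL ⟨4 :: [3, 7, 5, 4, 3, 7, 2], [5, 6, 3], 13, true⟩) (lall (memL L) [3, 7, 5, 4, 3, 7, 2]) = true := by decide +kernel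

theorem rot4_14 : T.rot 4 [3, 7, 2, 4, 3, 7, 5] (sel (ones 23256) ip4 14) = true := by decide +kernel

theorem rot4_14r : band (Rule.ok (2 * 1) EX RL ⟨4 :: [3, 7, 2, 4, 3, 7, 5], [6], 13, true⟩) (lall (memL L) [3, 7, 2, 4, 3, 7, 5]) = true := by decide +kernel

theorem rot4_15 : T.rot 4 [6, 7, 5, 4, 6, 7, 2] (sel (ones 23256) ip4 15) = true := by decide +kernel

theorem rot4_15r : band (Rule.ok (2 * 1) EX RL ⟨4 :: [6, 7, 5, 4, 6, 7, 2], [6, 3], 13, false⟩) (lall (memL L) [6, 7, 5, 4, 6, 7, 2]) = true := by decide +kernel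

theorem rot4_16 : T.rot 4 [6, 7, 2, 4, 6, 7, 5] (sel (ones 23256) ip4 16) = true := by decide +kernel

theorem rot4_16r : band (Rule.ok (2 * 1) EX RL ⟨4 :: [6, 7, 2, 4, 6, 7, 5], [5, 6], 13, false⟩) (lall (memL L) [6, 7, 2, 4, 6, 7, 5]) = true := by decide +kernel

theorem rot4_17 : T.rot 4 [2, 7, 5, 5, 4, 3, 2] (sel (ones 23256) ip4 17) = true := by decide +kernel

theorem rot4_17r : band (Rule.ok (2 * 1) EX RL ⟨4 :: [2, 7, 5, 5, 4, 3, 2], [3], 15, true⟩) (lall (memL L) [2, 7, 5, 5, 4, 3, 2]) = true := by decide +kernel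

theorem rot4_18 : T.rot 4 [3, 2, 4, 2, 7, 5, 5] (sel (ones 23256) ip4 18) = true := by decide +kernel

theorem rot4_18r : band (Rule.ok (2 * 1) EX RL ⟨4 :: [3, 2, 4, 2, 7, 5, 5], [4, 6], 15, true⟩) (lall (memL L) [3, 2, 4, 2, 7, 5, 5]) = true := by decide +kernel

theorem rot4_19 : T.rot 4 [5, 7, 5, 6, 7, 2, 2] (sel (ones 23256) ip4 19) = true := by decide +kernel

theorem rot4_19r : band (Rule.ok (2 * 1) EX RL ⟨4 :: [5, 7, 5, 6, 7, 2, 2], [3, 7, 3, 6], 15, false⟩) (lall (memL L) [5, 7, 5, 6, 7, 2, 2]) = true := by decide +kernel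

theorem rot4_20 : T.rot 4 [1, 4, 1, 4, 1, 4, 1] (sel (ones 23256) ip4 20) = true := by decide +kernel

theorem rot4_20r : band (Rule.ok (2 * 1) EX RL ⟨4 :: [1, 4, 1, 4, 1, 4, 1], [], 16, false⟩) (lall (memL L) [1, 4, 1, 4, 1, 4, 1]) = true := by decide +kernel

theorem rot4_21 : T.rot 4 [1, 4, 6, 7, 1, 6, 7, 6] (sel (ones 23256) ip4 21) = true := by decide +kernel

theorem rot4_21r : band (Rule.ok (2 * 1) EX RL ⟨4 :: [1, 4, 6, 7, 1, 6, 7, 6], [5, 6, 0, 6], 14, true⟩) (lall (memL L) [1, 4, 6, 7, 1, 6, 7, 6]) = true := by decide +kernel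

theorem rot4_22 : T.rot 4 [6, 7, 1, 6, 7, 6, 4, 1] (sel (ones 23256) ip4 22) = true := by decide +kernel

theorem rot4_22r : band (Rule.ok (2 * 1) EX RL ⟨4 :: [6, 7, 1, 6, 7, 6, 4, 1], [5, 6], 14, true⟩) (lall (memL L) [6, 7, 1, 6, 7, 6, 4, 1]) = true := by decide +kernel

theorem rot4_23 : T.rot 4 [3, 1, 4, 3, 7, 1, 7, 3] (sel (ones 23256) ip4 23) = true := by decide +kernel

theorem rot4_23r : band (Rule.ok (2 * 1) EX RL ⟨4 :: [3, 1, 4, 3, 7, 1, 7, 3], [6, 0, 4, 6], 14, false⟩) (lall (memL L) [3, 1, 4, 3, 7, 1, 7, 3]) = true := by decide +kernel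

theorem rot4_24 : T.rot 4 [3, 7, 1, 7, 3, 4, 3, 1] (sel (ones 23256) ip4 24) = true := by decide +kernel

theorem rot4_24r : band (Rule.ok (2 * 1) EX RL ⟨4 :: [3, 7, 1, 7, 3, 4, 3, 1], [6], 14, false⟩) (lall (memL L) [3, 7, 1, 7, 3, 4, 3, 1]) = true := by decide +kernel

theorem rot4_25 : T.rot 4 [1, 4, 4, 1, 4, 4, 1, 4, 4, 1, 4, 1, 2, 2, 2, 2] (sel (ones 23256) ip4 25) = true := by decide +kernel

theorem rot4_25r : band (Rule.ok (2 * 1) EX RL ⟨4 :: [1, 4, 4, 1, 4, 4, 1, 4, 4, 1, 4, 1, 2, 2, 2, 2], [0, 3, 3, 3, 3], 17, false⟩) (lall (memL L) [1, 4, 4, 1, 4, 4, 1, 4, 4, 1, 4, 1, 2, 2, 2, 2]) = true := by decide +kernel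

theorem rot4_26 : T.rot 4 [4, 1, 4, 4, 1, 4, 4, 1, 4, 1, 2, 2, 2, 2, 4, 1] (sel (ones 23256) ip4 26) = true := by decide +kernel

theorem rot4_26r : band (Rule.ok (2 * 1) EX RL ⟨4 :: [4, 1, 4, 4, 1, 4, 4, 1, 4, 1, 2, 2, 2, 2, 4, 1], [0, 3, 3, 3, 3, 7, 0], 17, false⟩) (lall (memL L) [4, 1, 4, 4, 1, 4, 4, 1, 4, 1, 2, 2, 2, 2, 4, 1]) = true := by decide +kernel

theorem rot4_27 : T.rot 4 [1, 4, 4, 1, 4, 4, 1, 4, 1, 2, 2, 2, 2, 4, 1, 4] (sel (ones 23256) ip4 27) = true := by decide +kernel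

theorem rot4_27r : band (Rule.ok (2 * 1) EX RL ⟨4 :: [1, 4, 4, 1, 4, 4, 1, 4, 1, 2, 2, 2, 2, 4, 1, 4], [0, 3, 3, 3, 3, 7, 0, 7], 17, false⟩) (lall (memL L) [1, 4, 4, 1, 4, 4, 1, 4, 1, 2, 2, 2, 2, 4, 1, 4]) = true := by decide +kernel

theorem rot4_28 : T.rot 4 [4, 1, 4, 4, 1, 4, 1, 2, 2, 2, 2, 4, 1, 4, 4, 1] (sel (ones 23256) ip4 28) = true := by decide +kernel

theorem rot4_28r : band (Rule.ok (2 * 1) EX RL ⟨4 :: [4, 1, 4, 4, 1, 4, 1, 2, 2, 2, 2, 4, 1, 4, 4, 1], [6, 0, 6, 6, 0, 6, 6], 17, false⟩) (lall (memL L) [4, 1, 4, 4, 1, 4, 1, 2, 2, 2, 2, 4, 1, 4, 4, 1]) = true := by decide +kernel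

theorem rot4_29 : T.rot 4 [1, 4, 4, 1, 4, 1, 2, 2, 2, 2, 4, 1, 4, 4, 1, 4] (sel (ones 23256) ip4 29) = true := by decide +kernel

theorem rot4_29r : band (Rule.ok (2 * 1) EX RL ⟨4 :: [1, 4, 4, 1, 4, 1, 2, 2, 2, 2, 4, 1, 4, 4, 1, 4], [6, 0, 6, 6, 0, 6], 17, false⟩) (lall (memL L) [1, 4, 4, 1, 4, 1, 2, 2, 2, 2, 4, 1, 4, 4, 1, 4]) = true := by decide +kernel

theorem rot4_30 : T.rot 4 [4, 1, 4, 1, 2, 2, 2, 2, 4, 1, 4, 4, 1, 4, 4, 1] (sel (ones 23256) ip4 30) = true := by decide +kernel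

theorem rot4_30r : band (Rule.ok (2 * 1) EX RL ⟨4 :: [4, 1, 4, 1, 2, 2, 2, 2, 4, 1, 4, 4, 1, 4, 4, 1], [6, 0, 6, 6], 17, false⟩) (lall (memL L) [4, 1, 4, 1, 2, 2, 2, 2, 4, 1, 4, 4, 1, 4, 4, 1]) = true := by decide +kernel

theorem rot4_31 : T.rot 4 [1, 4, 1, 2, 2, 2, 2, 4, 1, 4, 4, 1, 4, 4, 1, 4] (sel (ones 23256) ip4 31) = true := by decide +kernel

theorem rot4_31r : band (Rule.ok (2 * 1) EX RL ⟨4 :: [1, 4, 1, 2, 2, 2, 2, 4, 1, 4, 4, 1, 4, 4, 1, 4], [6, 0, 6], 17, false⟩) (lall (memL L) [1, 4, 1, 2, 2, 2, 2, 4, 1, 4, 4, 1, 4, 4, 1, 4]) = true := by decide +kernel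

theorem rot4_32 : T.rot 4 [1, 2, 2, 2, 2, 4, 1, 4, 4, 1, 4, 4, 1, 4, 4, 1] (sel (ones 23256) ip4 32) = true := by decide +kernel

theorem rot4_32r : band (Rule.ok (2 * 1) EX RL ⟨4 :: [1, 2, 2, 2, 2, 4, 1, 4, 4, 1, 4, 4, 1, 4, 4, 1], [6], 17, false⟩) (lall (memL L) [1, 2, 2, 2, 2, 4, 1, 4, 4, 1, 4, 4, 1, 4, 4, 1]) = true := by decide +kernel

theorem rot4_33 : T.rot 4 [1, 6, 7, 1, 2, 4, 1, 7, 5, 1, 4, 3, 1, 6, 7, 1, 2] (sel (ones 23256) ip4 33) = true := by decide +kernel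

theorem rot4_33r : band (Rule.ok (2 * 1) EX RL ⟨4 :: [1, 6, 7, 1, 2, 4, 1, 7, 5, 1, 4, 3, 1, 6, 7, 1, 2], [6, 0, 3], 18, true⟩) (lall (memL L) [1, 6, 7, 1, 2, 4, 1, 7, 5, 1, 4, 3, 1, 6, 7, 1, 2]) = true := by decide +kernel

theorem rot4_34 : T.rot 4 [1, 7, 5, 1, 4, 3, 1, 6, 7, 1, 2, 4, 1, 6, 7, 1, 2] (sel (ones 23256) ip4 34) = true := by decide +kernel

theorem rot4_34r : band (Rule.ok (2 * 1) EX RL ⟨4 :: [1, 7, 5, 1, 4, 3, 1, 6, 7, 1, 2, 4, 1, 6, 7, 1, 2], [5, 0, 4, 6, 0, 3, 7, 0, 6], 18, true⟩) (lall (memL L) [1, 7, 5, 1, 4, 3, 1, 6, 7, 1, 2, 4, 1, 6, 7, 1, 2]) = true := by decide +kernel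

theorem rot4_35 : T.rot 4 [3, 1, 6, 7, 1, 2, 4, 1, 6, 7, 1, 2, 4, 1, 7, 5, 1] (sel (ones 23256) ip4 35) = true := by decide +kernel

theorem rot4_35r : band (Rule.ok (2 * 1) EX RL ⟨4 :: [3, 1, 6, 7, 1, 2, 4, 1, 6, 7, 1, 2, 4, 1, 7, 5, 1], [5, 0, 4, 6], 18, true⟩) (lall (memL L) [3, 1, 6, 7, 1, 2, 4, 1, 6, 7, 1, 2, 4, 1, 7, 5, 1]) = true := by decide +kernel

theorem rot4_36 : T.rot 4 [1, 7, 5, 1, 4, 3, 1, 7, 5, 1, 4, 3, 1, 6, 7, 1, 2] (sel (ones 23256) ip4 36) = true := by decide +kernel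

theorem rot4_36r : band (Rule.ok (2 * 1) EX RL ⟨4 :: [1, 7, 5, 1, 4, 3, 1, 7, 5, 1, 4, 3, 1, 6, 7, 1, 2], [5, 0, 4, 6, 0, 3], 18, false⟩) (lall (memL L) [1, 7, 5, 1, 4, 3, 1, 7, 5, 1, 4, 3, 1, 6, 7, 1, 2]) = true := by decide +kernel

theorem rot4_37 : T.rot 4 [3, 1, 7, 5, 1, 4, 3, 1, 6, 7, 1, 2, 4, 1, 7, 5, 1] (sel (ones 23256) ip4 37) = true := by decide +kernel

theorem rot4_37r : band (Rule.ok (2 * 1) EX RL ⟨4 :: [3, 1, 7, 5, 1, 4, 3, 1, 6, 7, 1, 2, 4, 1, 7, 5, 1], [6, 0, 3, 7, 0, 4, 6], 18, false⟩) (lall (memL L) [3, 1, 7, 5, 1, 4, 3, 1, 6, 7, 1, 2, 4, 1, 7, 5, 1]) = true := by decide +kernel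

theorem rot4_38 : T.rot 4 [3, 1, 6, 7, 1, 2, 4, 1, 7, 5, 1, 4, 3, 1, 7, 5, 1] (sel (ones 23256) ip4 38) = true := by decide +kernel

theorem rot4_38r : band (Rule.ok (2 * 1) EX RL ⟨4 :: [3, 1, 6, 7, 1, 2, 4, 1, 7, 5, 1, 4, 3, 1, 7, 5, 1], [6], 18, false⟩) (lall (memL L) [3, 1, 6, 7, 1, 2, 4, 1, 7, 5, 1, 4, 3, 1, 7, 5, 1]) = true := by decide +kernel

theorem cov4 : T.cover 4 [(sel (ones 23256) ip4 1), (sel (ones 23256) ip4 2), (sel (ones 23256) ip4 3), (sel (ones 23256) ip4 4), (sel (ones 23256) ip4 5), (sel (ones 23256) ip4 6), (sel (ones 23256) ip4 7), (sel (ones 23256) ip4 8), (sel (ones 23256) ip4 9), (sel (ones 23256) ip4 10), (sel (ones 23256) ip4 11), (sel (ones 23256) ip4 12), (sel (ones 23256) ip4 13), (sel (ones 23256) ip4 14), (sel (ones 23256) ip4 15), (sel (ones 23256) ip4 16), (sel (ones 23256) ip4 17), (sel (ones 23256) ip4 18), (sel (ones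 23256) ip4 19), (sel (ones 23256) ip4 20), (sel (ones 23256) ip4 21), (sel (ones 23256) ip4 22), (sel (ones 23256) ip4 23), (sel (ones 23256) ip4 24), (sel (ones 23256) ip4 25), (sel (ones 23256) ip4 26), (sel (ones 23256) ip4 27), (sel (ones 23256) ip4 28), (sel (ones 23256) ip4 29), (sel (ones 23256) ip4 30), (sel (ones 23256) ip4 31), (sel (ones 23256) ip4 32), (sel (ones 23256) ip4 33), (sel (ones 23256) ip4 34), (sel (ones 23256) ip4 35), (sel (ones 23256) ip4 36), (sel (ones 23256) ip4 37), (sel (ones 23256) ip4 38)] = true := by decide +kernel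

theorem tl4 : T.treeLt 15 4 = true := by decide +kernel

theorem rot5_1 : T.rot 5 [2] (sel (ones 23256) ip5 1) = true := by decide +kernel

theorem rot5_1r : band (Rule.ok (2 * 1) EX RL ⟨5 :: [2], [], 19, false⟩) (lall (memL L) [2]) = true := by decide +kernel

theorem rot5_2 : T.rot 5 [1, 5, 1] (sel (ones 23256) ip5 2) = true := by decide +kernel

theorem rot5_2r : band (Rule.ok (2 * 1) EX RL ⟨5 :: [1, 5, 1], [], 6, false⟩) (lall (memL L) [1, 5, 1]) = true := by decide +kernel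

theorem rot5_3 : T.rot 5 [3, 2, 3, 4, 4, 4] (sel (ones 23256) ip5 3) = true := by decide +kernel

theorem rot5_3r : band (Rule.ok (2 * 1) EX RL ⟨5 :: [3, 2, 3, 4, 4, 4], [4, 3], 9, true⟩) (lall (memL L) [3, 2, 3, 4, 4, 4]) = true := by decide +kernel

theorem rot5_4 : T.rot 5 [6, 2, 7, 7, 7, 6] (sel (ones 23256) ip5 4) = true := by decide +kernel

theorem rot5_4r : band (Rule.ok (2 * 1) EX RL ⟨5 :: [6, 2, 7, 7, 7, 6], [3], 9, false⟩) (lall (memL L) [6, 2, 7, 7, 7, 6]) = true := by decide +kernel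

theorem rot5_5 : T.rot 5 [4, 4, 3, 4, 2, 3] (sel (ones 23256) ip5 5) = true := by decide +kernel

theorem rot5_5r : band (Rule.ok (2 * 1) EX RL ⟨5 :: [4, 4, 3, 4, 2, 3], [3, 5], 10, true⟩) (lall (memL L) [4, 4, 3, 4, 2, 3]) = true := by decide +kernel

theorem rot5_6 : T.rot 5 [7, 6, 7, 7, 2, 6] (sel (ones 23256) ip5 6) = true := by decide +kernel

theorem rot5_6r : band (Rule.ok (2 * 1) EX RL ⟨5 :: [7, 6, 7, 7, 2, 6], [3], 10, false⟩) (lall (memL L) [7, 6, 7, 7, 2, 6]) = true := by decide +kernel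

theorem rot5_7 : T.rot 5 [3, 2, 4, 4, 4, 3] (sel (ones 23256) ip5 7) = true := by decide +kernel

theorem rot5_7r : band (Rule.ok (2 * 1) EX RL ⟨5 :: [3, 2, 4, 4, 4, 3], [4, 3], 11, true⟩) (lall (memL L) [3, 2, 4, 4, 4, 3]) = true := by decide +kernel

theorem rot5_8 : T.rot 5 [6, 2, 6, 7, 7, 7] (sel (ones 23256) ip5 8) = true := by decide +kernel

theorem rot5_8r : band (Rule.ok (2 * 1) EX RL ⟨5 :: [6, 2, 6, 7, 7, 7], [3], 11, false⟩) (lall (memL L) [6, 2, 6, 7, 7, 7]) = true := by decide +kernel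

theorem rot5_9 : T.rot 5 [6, 2, 6, 5, 3, 2, 3] (sel (ones 23256) ip5 9) = true := by decide +kernel

theorem rot5_9r : band (Rule.ok (2 * 1) EX RL ⟨5 :: [6, 2, 6, 5, 3, 2, 3], [5, 3, 5], 2, true⟩) (lall (memL L) [6, 2, 6, 5, 3, 2, 3]) = true := by decide +kernel

theorem rot5_10 : T.rot 5 [3, 2, 3, 5, 6, 2, 6] (sel (ones 23256) ip5 10) = true := by decide +kernel

theorem rot5_10r : band (Rule.ok (2 * 1) EX RL ⟨5 :: [3, 2, 3, 5, 6, 2, 6], [], 3, false⟩) (lall (memL L) [3, 2, 3, 5, 6, 2, 6]) = true := by decide +kernel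

theorem rot5_11 : T.rot 5 [3, 2, 6, 5, 6, 2, 3] (sel (ones 23256) ip5 11) = true := by decide +kernel

theorem rot5_11r : band (Rule.ok (2 * 1) EX RL ⟨5 :: [3, 2, 6, 5, 6, 2, 3], [5], 3, true⟩) (lall (memL L) [3, 2, 6, 5, 6, 2, 3]) = true := by decide +kernel

theorem rot5_12 : T.rot 5 [6, 2, 3, 5, 3, 2, 6] (sel (ones 23256) ip5 12) = true := by decide +kernel

theorem rot5_12r : band (Rule.ok (2 * 1) EX RL ⟨5 :: [6, 2, 3, 5, 3, 2, 6], [5, 3], 2, false⟩) (lall (memL L) [6, 2, 3, 5, 3, 2, 6]) = true := by decide +kernel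

theorem rot5_13 : T.rot 5 [4, 3, 7, 2, 4, 3, 7] (sel (ones 23256) ip5 13) = true := by decide +kernel

theorem rot5_13r : band (Rule.ok (2 * 1) EX RL ⟨5 :: [4, 3, 7, 2, 4, 3, 7], [6, 3], 13, true⟩) (lall (memL L) [4, 3, 7, 2, 4, 3, 7]) = true := by decide +kernel

theorem rot5_14 : T.rot 5 [4, 6, 7, 2, 4, 6, 7] (sel (ones 23256) ip5 14) = true := by decide +kernel

theorem rot5_14r : band (Rule.ok (2 * 1) EX RL ⟨5 :: [4, 6, 7, 2, 4, 6, 7], [5, 6, 3], 13, false⟩) (lall (memL L) [4, 6, 7, 2, 4, 6, 7]) = true := by decide +kernel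

theorem rot5_15 : T.rot 5 [5, 4, 3, 2, 4, 2, 7] (sel (ones 23256) ip5 15) = true := by decide +kernel

theorem rot5_15r : band (Rule.ok (2 * 1) EX RL ⟨5 :: [5, 4, 3, 2, 4, 2, 7], [4, 6, 3, 3], 15, true⟩) (lall (memL L) [5, 4, 3, 2, 4, 2, 7]) = true := by decide +kernel

theorem rot5_16 : T.rot 5 [4, 3, 2, 4, 2, 7, 5] (sel (ones 23256) ip5 16) = true := by decide +kernel

theorem rot5_16r : band (Rule.ok (2 * 1) EX RL ⟨5 :: [4, 3, 2, 4, 2, 7, 5], [4, 6, 3], 15, true⟩) (lall (memL L) [4, 3, 2, 4, 2, 7, 5]) = true := by decide +kernel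

theorem rot5_17 : T.rot 5 [7, 5, 6, 7, 2, 2, 4] (sel (ones 23256) ip5 17) = true := by decide +kernel

theorem rot5_17r : band (Rule.ok (2 * 1) EX RL ⟨5 :: [7, 5, 6, 7, 2, 2, 4], [3, 7, 3], 15, false⟩) (lall (memL L) [7, 5, 6, 7, 2, 2, 4]) = true := by decide +kernel

theorem rot5_18 : T.rot 5 [6, 7, 2, 2, 4, 5, 7] (sel (ones 23256) ip5 18) = true := by decide +kernel

theorem rot5_18r : band (Rule.ok (2 * 1) EX RL ⟨5 :: [6, 7, 2, 2, 4, 5, 7], [3], 15, false⟩) (lall (memL L) [6, 7, 2, 2, 4, 5, 7]) = true := by decide +kernel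

theorem rot5_19 : T.rot 5 [5, 3, 2, 2, 6, 5, 5, 6, 2, 2, 3] (sel (ones 23256) ip5 19) = true := by decide +kernel

theorem rot5_19r : band (Rule.ok (2 * 1) EX RL ⟨5 :: [5, 3, 2, 2, 6, 5, 5, 6, 2, 2, 3], [3, 5], 0, true⟩) (lall (memL L) [5, 3, 2, 2, 6, 5, 5, 6, 2, 2, 3]) = true := by decide +kernel

theorem rot5_20 : T.rot 5 [3, 2, 2, 6, 5, 5, 6, 2, 2, 3, 5] (sel (ones 23256) ip5 20) = true := by decide +kernel

theorem rot5_20r : band (Rule.ok (2 * 1) EX RL ⟨5 :: [3, 2, 2, 6, 5, 5, 6, 2, 2, 3, 5], [3, 5, 2], 0, true⟩) (lall (memL L) [3, 2, 2, 6, 5, 5, 6, 2, 2, 3, 5]) = true := by decide +kernel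

theorem rot5_21 : T.rot 5 [5, 6, 2, 2, 3, 5, 5, 3, 2, 2, 6] (sel (ones 23256) ip5 21) = true := by decide +kernel

theorem rot5_21r : band (Rule.ok (2 * 1) EX RL ⟨5 :: [5, 6, 2, 2, 3, 5, 5, 3, 2, 2, 6], [2, 5, 3, 3], 0, true⟩) (lall (memL L) [5, 6, 2, 2, 3, 5, 5, 3, 2, 2, 6]) = true := by decide +kernel

theorem rot5_22 : T.rot 5 [6, 2, 2, 3, 5, 5, 3, 2, 2, 6, 5] (sel (ones 23256) ip5 22) = true := by decide +kernel

theorem rot5_22r : band (Rule.ok (2 * 1) EX RL ⟨5 :: [6, 2, 2, 3, 5, 5, 3, 2, 2, 6, 5], [2, 5, 3], 0, true⟩) (lall (memL L) [6, 2, 2, 3, 5, 5, 3, 2, 2, 6, 5]) = true := by decide +kernel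

theorem rot5_23 : T.rot 5 [3, 2, 2, 3, 5, 5, 6, 2, 2, 6, 5] (sel (ones 23256) ip5 23) = true := by decide +kernel

theorem rot5_23r : band (Rule.ok (2 * 1) EX RL ⟨5 :: [3, 2, 2, 3, 5, 5, 6, 2, 2, 6, 5], [], 0, false⟩) (lall (memL L) [3, 2, 2, 3, 5, 5, 6, 2, 2, 6, 5]) = true := by decide +kernel

theorem rot5_24 : T.rot 5 [5, 6, 2, 2, 6, 5, 5, 3, 2, 2, 3] (sel (ones 23256) ip5 24) = true := by decide +kernel

theorem rot5_24r : band (Rule.ok (2 * 1) EX RL ⟨5 :: [5, 6, 2, 2, 6, 5, 5, 3, 2, 2, 3], [2, 5, 3, 3, 5], 0, false⟩) (lall (memL L) [5, 6, 2, 2, 6, 5, 5, 3, 2, 2, 3]) = true := by decide +kernel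

theorem rot5_25 : T.rot 5 [6, 2, 2, 6, 5, 5, 3, 2, 2, 3, 5] (sel (ones 23256) ip5 25) = true := by decide +kernel

theorem rot5_25r : band (Rule.ok (2 * 1) EX RL ⟨5 :: [6, 2, 2, 6, 5, 5, 3, 2, 2, 3, 5], [3, 5, 2, 2, 5, 3], 0, false⟩) (lall (memL L) [6, 2, 2, 6, 5, 5, 3, 2, 2, 3, 5]) = true := by decide +kernel

theorem rot5_26 : T.rot 5 [5, 3, 2, 2, 3, 5, 5, 6, 2, 2, 6] (sel (ones 23256) ip5 26) = true := by decide +kernel

theorem rot5_26r : band (Rule.ok (2 * 1) EX RL ⟨5 :: [5, 3, 2, 2, 3, 5, 5, 6, 2, 2, 6], [3], 0, false⟩) (lall (memL L) [5, 3, 2, 2, 3, 5, 5, 6, 2, 2, 6]) = true := by decide +kernel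

theorem rot5_27 : T.rot 5 [6, 1, 6, 2, 3, 1, 5, 3, 2, 1, 3] (sel (ones 23256) ip5 27) = true := by decide +kernel

theorem rot5_27r : band (Rule.ok (2 * 1) EX RL ⟨5 :: [6, 1, 6, 2, 3, 1, 5, 3, 2, 1, 3], [0, 5], 8, true⟩) (lall (memL L) [6, 1, 6, 2, 3, 1, 5, 3, 2, 1, 3]) = true := by decide +kernel

theorem rot5_28 : T.rot 5 [3, 2, 1, 3, 5, 6, 1, 6, 2, 3, 1] (sel (ones 23256) ip5 28) = true := by decide +kernel

theorem rot5_28r : band (Rule.ok (2 * 1) EX RL ⟨5 :: [3, 2, 1, 3, 5, 6, 1, 6, 2, 3, 1], [2, 4, 3], 8, true⟩) (lall (memL L) [3, 2, 1, 3, 5, 6, 1, 6, 2, 3, 1]) = true := by decide +kernel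

theorem rot5_29 : T.rot 5 [6, 2, 1, 6, 5, 3, 1, 3, 2, 6, 1] (sel (ones 23256) ip5 29) = true := by decide +kernel

theorem rot5_29r : band (Rule.ok (2 * 1) EX RL ⟨5 :: [6, 2, 1, 6, 5, 3, 1, 3, 2, 6, 1], [], 8, false⟩) (lall (memL L) [6, 2, 1, 6, 5, 3, 1, 3, 2, 6, 1]) = true := by decide +kernel

theorem rot5_30 : T.rot 5 [3, 1, 3, 2, 6, 1, 5, 6, 2, 1, 6] (sel (ones 23256) ip5 30) = true := by decide +kernel

theorem rot5_30r : band (Rule.ok (2 * 1) EX RL ⟨5 :: [3, 1, 3, 2, 6, 1, 5, 6, 2, 1, 6], [2, 4, 3, 0, 4], 8, false⟩) (lall (memL L) [3, 1, 3, 2, 6, 1, 5, 6, 2, 1, 6]) = true := by decide +kernel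

theorem rot5_31 : T.rot 5 [3, 2, 2, 6, 5, 1, 3, 1, 3, 1, 3, 1] (sel (ones 23256) ip5 31) = true := by decide +kernel

theorem rot5_31r : band (Rule.ok (2 * 1) EX RL ⟨5 :: [3, 2, 2, 6, 5, 1, 3, 1, 3, 1, 3, 1], [3, 5, 2, 2, 4, 3], 7, true⟩) (lall (memL L) [3, 2, 2, 6, 5, 1, 3, 1, 3, 1, 3, 1]) = true := by decide +kernel

theorem rot5_32 : T.rot 5 [1, 3, 1, 3, 1, 3, 1, 5, 3, 2, 2, 6] (sel (ones 23256) ip5 32) = true := by decide +kernel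

theorem rot5_32r : band (Rule.ok (2 * 1) EX RL ⟨5 :: [1, 3, 1, 3, 1, 3, 1, 5, 3, 2, 2, 6], [3], 7, true⟩) (lall (memL L) [1, 3, 1, 3, 1, 3, 1, 5, 3, 2, 2, 6]) = true := by decide +kernel

theorem rot5_33 : T.rot 5 [5, 6, 2, 1, 6, 1, 6, 1, 6, 1, 2, 3] (sel (ones 23256) ip5 33) = true := by decide +kernel

theorem rot5_33r : band (Rule.ok (2 * 1) EX RL ⟨5 :: [5, 6, 2, 1, 6, 1, 6, 1, 6, 1, 2, 3], [3, 5], 7, false⟩) (lall (memL L) [5, 6, 2, 1, 6, 1, 6, 1, 6, 1, 2, 3]) = true := by decide +kernel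

theorem rot5_34 : T.rot 5 [6, 2, 1, 6, 1, 6, 1, 6, 1, 2, 3, 5] (sel (ones 23256) ip5 34) = true := by decide +kernel

theorem rot5_34r : band (Rule.ok (2 * 1) EX RL ⟨5 :: [6, 2, 1, 6, 1, 6, 1, 6, 1, 2, 3, 5], [3, 5, 2], 7, false⟩) (lall (memL L) [6, 2, 1, 6, 1, 6, 1, 6, 1, 2, 3, 5]) = true := by decide +kernel

theorem rot5_35 : T.rot 5 [5, 5, 5, 1, 7, 1, 7, 7, 1, 7, 7, 1, 7, 7, 1, 7] (sel (ones 23256) ip5 35) = true := by decide +kernel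

theorem rot5_35r : band (Rule.ok (2 * 1) EX RL ⟨5 :: [5, 5, 5, 1, 7, 1, 7, 7, 1, 7, 7, 1, 7, 7, 1, 7], [0, 3, 3, 3, 3], 17, true⟩) (lall (memL L) [5, 5, 5, 1, 7, 1, 7, 7, 1, 7, 7, 1, 7, 7, 1, 7]) = true := by decide +kernel

theorem rot5_36 : T.rot 5 [5, 5, 1, 7, 1, 7, 7, 1, 7, 7, 1, 7, 7, 1, 7, 5] (sel (ones 23256) ip5 36) = true := by decide +kernel

theorem rot5_36r : band (Rule.ok (2 * 1) EX RL ⟨5 :: [5, 5, 1, 7, 1, 7, 7, 1, 7, 7, 1, 7, 7, 1, 7, 5], [0, 3, 3, 3], 17, true⟩) (lall (memL L) [5, 5, 1, 7, 1, 7, 7, 1, 7, 7, 1, 7, 7, 1, 7, 5]) = true := by decide +kernel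

theorem rot5_37 : T.rot 5 [5, 1, 7, 1, 7, 7, 1, 7, 7, 1, 7, 7, 1, 7, 5, 5] (sel (ones 23256) ip5 37) = true := by decide +kernel

theorem rot5_37r : band (Rule.ok (2 * 1) EX RL ⟨5 :: [5, 1, 7, 1, 7, 7, 1, 7, 7, 1, 7, 7, 1, 7, 5, 5], [0, 3, 3], 17, true⟩) (lall (memL L) [5, 1, 7, 1, 7, 7, 1, 7, 7, 1, 7, 7, 1, 7, 5, 5]) = true := by decide +kernel

theorem rot5_38 : T.rot 5 [1, 7, 1, 7, 7, 1, 7, 7, 1, 7, 7, 1, 7, 5, 5, 5] (sel (ones 23256) ip5 38) = true := by decide +kernel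

theorem rot5_38r : band (Rule.ok (2 * 1) EX RL ⟨5 :: [1, 7, 1, 7, 7, 1, 7, 7, 1, 7, 7, 1, 7, 5, 5, 5], [0, 3], 17, true⟩) (lall (memL L) [1, 7, 1, 7, 7, 1, 7, 7, 1, 7, 7, 1, 7, 5, 5, 5]) = true := by decide +kernel

theorem rot5_39 : T.rot 5 [1, 4, 3, 1, 6, 7, 1, 2, 4, 1, 6, 7, 1, 2, 4, 1, 7] (sel (ones 23256) ip5 39) = true := by decide +kernel

theorem rot5_39r : band (Rule.ok (2 * 1) EX RL ⟨5 :: [1, 4, 3, 1, 6, 7, 1, 2, 4, 1, 6, 7, 1, 2, 4, 1, 7], [5, 0, 4, 6, 0, 3], 18, true⟩) (lall (memL L) [1, 4, 3, 1, 6, 7, 1, 2, 4, 1, 6, 7, 1, 2, 4, 1, 7]) = true := by decide +kernel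

theorem rot5_40 : T.rot 5 [1, 4, 3, 1, 7, 5, 1, 4, 3, 1, 6, 7, 1, 2, 4, 1, 7] (sel (ones 23256) ip5 40) = true := by decide +kernel

theorem rot5_40r : band (Rule.ok (2 * 1) EX RL ⟨5 :: [1, 4, 3, 1, 7, 5, 1, 4, 3, 1, 6, 7, 1, 2, 4, 1, 7], [6, 0, 3, 7, 0, 4, 6, 0, 3], 18, false⟩) (lall (memL L) [1, 4, 3, 1, 7, 5, 1, 4, 3, 1, 6, 7, 1, 2, 4, 1, 7]) = true := by decide +kernel

theorem rot5_41 : T.rot 5 [1, 4, 3, 1, 6, 7, 1, 2, 4, 1, 7, 5, 1, 4, 3, 1, 7] (sel (ones 23256) ip5 41) = true := by decide +kernel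

theorem rot5_41r : band (Rule.ok (2 * 1) EX RL ⟨5 :: [1, 4, 3, 1, 6, 7, 1, 2, 4, 1, 7, 5, 1, 4, 3, 1, 7], [6, 0, 3], 18, false⟩) (lall (memL L) [1, 4, 3, 1, 6, 7, 1, 2, 4, 1, 7, 5, 1, 4, 3, 1, 7]) = true := by decide +kernel

theorem cov5 : T.cover 5 [(sel (ones 23256) ip5 1), (sel (ones 23256) ip5 2), (sel (ones 23256) ip5 3), (sel (ones 23256) ip5 4), (sel (ones 23256) ip5 5), (sel (ones 23256) ip5 6), (sel (ones 23256) ip5 7), (sel (ones 23256) ip5 8), (sel (ones 23256) ip5 9), (sel (ones 23256) ip5 10), (sel (ones 23256) ip5 11), (sel (ones 23256) ip5 12), (sel (ones 23256) ip5 13), (sel (ones 23256) ip5 14), (sel (ones 23256) ip5 15), (sel (ones 23256) ip5 16), (sel (ones 23256) ip5 17), (sel (ones 23256) ip5 18), (sel (ones 23256) ip5 19), (sel (ones 23256) ip5 20), (sel (ones 23256) ip5 21), (sel (ones 23256) ip5 22), (sel (ones 23256) ip5 23),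 (sel (ones 23256) ip5 24), (sel (ones 23256) ip5 25), (sel (ones 23256) ip5 26), (sel (ones 23256) ip5 27), (sel (ones 23256) ip5 28), (sel (ones 23256) ip5 29), (sel (ones 23256) ip5 30), (sel (ones 23256) ip5 31), (sel (ones 23256) ip5 32), (sel (ones 23256) ip5 33), (sel (ones 23256) ip5 34), (sel (ones 23256) ip5 35), (sel (ones 23256) ip5 36), (sel (ones 23256) ip5 37), (sel (ones 23256) ip5 38), (sel (ones 23256) ip5 39), (sel (ones 23256) ip5 40), (sel (ones 23256) ip5 41)] = true := by decide +kernel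

theorem tl5 : T.treeLt 15 5 = true := by decide +kernel

theorem rot6_1 : T.rot 6 [3] (sel (ones 23256) ip6 1) = true := by decide +kernel

theorem rot6_1r : band (Rule.ok (2 * 1) EX RL ⟨6 :: [3], [], 19, false⟩) (lall (memL L) [3]) = true := by decide +kernel

theorem rot6_2 : T.rot 6 [6, 6] (sel (ones 23256) ip6 2) = true := by decide +kernel

theorem rot6_2r : band (Rule.ok (2 * 1) EX RL ⟨6 :: [6, 6], [], 4, false⟩) (lall (memL L) [6, 6]) = true := by decide +kernel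

theorem rot6_3 : T.rot 6 [2, 7, 7, 7, 6, 5] (sel (ones 23256) ip6 3) = true := by decide +kernel

theorem rot6_3r : band (Rule.ok (2 * 1) EX RL ⟨6 :: [2, 7, 7, 7, 6, 5], [], 9, false⟩) (lall (memL L) [2, 7, 7, 7, 6, 5]) = true := by decide +kernel

theorem rot6_4 : T.rot 6 [5, 6, 2, 7, 7, 7] (sel (ones 23256) ip6 4) = true := by decide +kernel

theorem rot6_4r : band (Rule.ok (2 * 1) EX RL ⟨6 :: [5, 6, 2, 7, 7, 7], [3, 5], 9, false⟩) (lall (memL L) [5, 6, 2, 7, 7, 7]) = true := by decide +kernel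

theorem rot6_5 : T.rot 6 [7, 7, 2, 6, 5, 7] (sel (ones 23256) ip6 5) = true := by decide +kernel

theorem rot6_5r : band (Rule.ok (2 * 1) EX RL ⟨6 :: [7, 7, 2, 6, 5, 7], [6], 10, false⟩) (lall (memL L) [7, 7, 2, 6, 5, 7]) = true := by decide +kernel

theorem rot6_6 : T.rot 6 [5, 7, 6, 7, 7, 2] (sel (ones 23256) ip6 6) = true := by decide +kernel

theorem rot6_6r : band (Rule.ok (2 * 1) EX RL ⟨6 :: [5, 7, 6, 7, 7, 2], [3, 5], 10, false⟩) (lall (memL L) [5, 7, 6, 7, 7, 2]) = true := by decide +kernel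

theorem rot6_7 : T.rot 6 [2, 6, 7, 7, 7, 5] (sel (ones 23256) ip6 7) = true := by decide +kernel

theorem rot6_7r : band (Rule.ok (2 * 1) EX RL ⟨6 :: [2, 6, 7, 7, 7, 5], [], 11, false⟩) (lall (memL L) [2, 6, 7, 7, 7, 5]) = true := by decide +kernel

theorem rot6_8 : T.rot 6 [7, 7, 7, 5, 6, 2] (sel (ones 23256) ip6 8) = true := by decide +kernel

theorem rot6_8r : band (Rule.ok (2 * 1) EX RL ⟨6 :: [7, 7, 7, 5, 6, 2], [4, 3], 11, false⟩) (lall (memL L) [7, 7, 7, 5, 6, 2]) = true := by decide +kernel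

theorem rot6_9 : T.rot 6 [2, 6, 5, 3, 2, 3, 5] (sel (ones 23256) ip6 9) = true := by decide +kernel

theorem rot6_9r : band (Rule.ok (2 * 1) EX RL ⟨6 :: [2, 6, 5, 3, 2, 3, 5], [5, 2, 5], 3, false⟩) (lall (memL L) [2, 6, 5, 3, 2, 3, 5]) = true := by decide +kernel

theorem rot6_10 : T.rot 6 [5, 3, 2, 3, 5, 6, 2] (sel (ones 23256) ip6 10) = true := by decide +kernel

theorem rot6_10r : band (Rule.ok (2 * 1) EX RL ⟨6 :: [5, 3, 2, 3, 5, 6, 2], [5], 3, false⟩) (lall (memL L) [5, 3, 2, 3, 5, 6, 2]) = true := by decide +kernel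

theorem rot6_11 : T.rot 6 [5, 6, 2, 3, 5, 3, 2] (sel (ones 23256) ip6 11) = true := by decide +kernel

theorem rot6_11r : band (Rule.ok (2 * 1) EX RL ⟨6 :: [5, 6, 2, 3, 5, 3, 2], [5, 3, 5], 2, false⟩) (lall (memL L) [5, 6, 2, 3, 5, 3, 2]) = true := by decide +kernel

theorem rot6_12 : T.rot 6 [2, 3, 5, 3, 2, 6, 5] (sel (ones 23256) ip6 12) = true := by decide +kernel

theorem rot6_12r : band (Rule.ok (2 * 1) EX RL ⟨6 :: [2, 3, 5, 3, 2, 6, 5], [5], 2, false⟩) (lall (memL L) [2, 3, 5, 3, 2, 6, 5]) = true := by decide +kernel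

theorem rot6_13 : T.rot 6 [7, 1, 4, 3, 7, 1, 4] (sel (ones 23256) ip6 13) = true := by decide +kernel

theorem rot6_13r : band (Rule.ok (2 * 1) EX RL ⟨6 :: [7, 1, 4, 3, 7, 1, 4], [5], 12, false⟩) (lall (memL L) [7, 1, 4, 3, 7, 1, 4]) = true := by decide +kernel

theorem rot6_14 : T.rot 6 [7, 5, 4, 6, 7, 2, 4] (sel (ones 23256) ip6 14) = true := by decide +kernel

theorem rot6_14r : band (Rule.ok (2 * 1) EX RL ⟨6 :: [7, 5, 4, 6, 7, 2, 4], [6, 3, 7], 13, false⟩) (lall (memL L) [7, 5, 4, 6, 7, 2, 4]) = true := by decide +kernel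

theorem rot6_15 : T.rot 6 [7, 2, 4, 6, 7, 5, 4] (sel (ones 23256) ip6 15) = true := by decide +kernel

theorem rot6_15r : band (Rule.ok (2 * 1) EX RL ⟨6 :: [7, 2, 4, 6, 7, 5, 4], [5], 13, false⟩) (lall (memL L) [7, 2, 4, 6, 7, 5, 4]) = true := by decide +kernel

theorem rot6_16 : T.rot 6 [7, 2, 2, 4, 5, 7, 5] (sel (ones 23256) ip6 16) = true := by decide +kernel

theorem rot6_16r : band (Rule.ok (2 * 1) EX RL ⟨6 :: [7, 2, 2, 4, 5, 7, 5], [], 15, false⟩) (lall (memL L) [7, 2, 2, 4, 5, 7, 5]) = true := by decide +kernel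

theorem rot6_17 : T.rot 6 [5, 2, 6, 5, 2, 6, 5, 2] (sel (ones 23256) ip6 17) = true := by decide +kernel

theorem rot6_17r : band (Rule.ok (2 * 1) EX RL ⟨6 :: [5, 2, 6, 5, 2, 6, 5, 2], [], 4, false⟩) (lall (memL L) [5, 2, 6, 5, 2, 6, 5, 2]) = true := by decide +kernel

theorem rot6_18 : T.rot 6 [2, 5, 6, 2, 5, 6, 2, 5] (sel (ones 23256) ip6 18) = true := by decide +kernel

theorem rot6_18r : band (Rule.ok (2 * 1) EX RL ⟨6 :: [2, 5, 6, 2, 5, 6, 2, 5], [], 4, false⟩) (lall (memL L) [2, 5, 6, 2, 5, 6, 2, 5]) = true := by decide +kernel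

theorem rot6_19 : T.rot 6 [7, 6, 4, 1, 4, 6, 7, 1] (sel (ones 23256) ip6 19) = true := by decide +kernel

theorem rot6_19r : band (Rule.ok (2 * 1) EX RL ⟨6 :: [7, 6, 4, 1, 4, 6, 7, 1], [6, 0], 14, true⟩) (lall (memL L) [7, 6, 4, 1, 4, 6, 7, 1]) = true := by decide +kernel

theorem rot6_20 : T.rot 6 [4, 1, 4, 6, 7, 1, 6, 7] (sel (ones 23256) ip6 20) = true := by decide +kernel

theorem rot6_20r : band (Rule.ok (2 * 1) EX RL ⟨6 :: [4, 1, 4, 6, 7, 1, 6, 7], [6, 0, 4, 6], 14, true⟩) (lall (memL L) [4, 1, 4, 6, 7, 1, 6, 7]) = true := by decide +kernel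

theorem rot6_21 : T.rot 6 [7, 1, 6, 7, 6, 4, 1, 4] (sel (ones 23256) ip6 21) = true := by decide +kernel

theorem rot6_21r : band (Rule.ok (2 * 1) EX RL ⟨6 :: [7, 1, 6, 7, 6, 4, 1, 4], [5], 14, true⟩) (lall (memL L) [7, 1, 6, 7, 6, 4, 1, 4]) = true := by decide +kernel

theorem rot6_22 : T.rot 6 [5, 5, 6, 2, 2, 3, 5, 5, 3, 2, 2] (sel (ones 23256) ip6 22) = true := by decide +kernel

theorem rot6_22r : band (Rule.ok (2 * 1) EX RL ⟨6 :: [5, 5, 6, 2, 2, 3, 5, 5, 3, 2, 2], [2, 5, 3, 3, 5], 0, true⟩) (lall (memL L) [5, 5, 6, 2, 2, 3, 5, 5, 3, 2, 2]) = true := by decide +kernel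

theorem rot6_23 : T.rot 6 [2, 2, 3, 5, 5, 3, 2, 2, 6, 5, 5] (sel (ones 23256) ip6 23) = true := by decide +kernel

theorem rot6_23r : band (Rule.ok (2 * 1) EX RL ⟨6 :: [2, 2, 3, 5, 5, 3, 2, 2, 6, 5, 5], [2, 5], 0, true⟩) (lall (memL L) [2, 2, 3, 5, 5, 3, 2, 2, 6, 5, 5]) = true := by decide +kernel

theorem rot6_24 : T.rot 6 [2, 2, 6, 5, 5, 3, 2, 2, 3, 5, 5] (sel (ones 23256) ip6 24) = true := by decide +kernel

theorem rot6_24r : band (Rule.ok (2 * 1) EX RL ⟨6 :: [2, 2, 6, 5, 5, 3, 2, 2, 3, 5, 5], [3, 5, 2, 2, 5], 0, false⟩) (lall (memL L) [2, 2, 6, 5, 5, 3, 2, 2, 3, 5, 5]) = true := by decide +kernel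

theorem rot6_25 : T.rot 6 [5, 5, 3, 2, 2, 3, 5, 5, 6, 2, 2] (sel (ones 23256) ip6 25) = true := by decide +kernel

theorem rot6_25r : band (Rule.ok (2 * 1) EX RL ⟨6 :: [5, 5, 3, 2, 2, 3, 5, 5, 6, 2, 2], [3, 5], 0, false⟩) (lall (memL L) [5, 5, 3, 2, 2, 3, 5, 5, 6, 2, 2]) = true := by decide +kernel

theorem rot6_26 : T.rot 6 [1, 6, 2, 3, 1, 5, 3, 2, 1, 3, 5] (sel (ones 23256) ip6 26) = true := by decide +kernel

theorem rot6_26r : band (Rule.ok (2 * 1) EX RL ⟨6 :: [1, 6, 2, 3, 1, 5, 3, 2, 1, 3, 5], [0, 5, 2], 8, true⟩) (lall (memL L) [1, 6, 2, 3, 1, 5, 3, 2, 1, 3, 5]) = true := by decide +kernel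

theorem rot6_27 : T.rot 6 [2, 3, 1, 5, 3, 2, 1, 3, 5, 6, 1] (sel (ones 23256) ip6 27) = true := by decide +kernel

theorem rot6_27r : band (Rule.ok (2 * 1) EX RL ⟨6 :: [2, 3, 1, 5, 3, 2, 1, 3, 5, 6, 1], [0, 5, 2, 4, 0], 8, true⟩) (lall (memL L) [2, 3, 1, 5, 3, 2, 1, 3, 5, 6, 1]) = true := by decide +kernel

theorem rot6_28 : T.rot 6 [2, 1, 6, 5, 3, 1, 3, 2, 6, 1, 5] (sel (ones 23256) ip6 28) = true := by decide +kernel

theorem rot6_28r : band (Rule.ok (2 * 1) EX RL ⟨6 :: [2, 1, 6, 5, 3, 1, 3, 2, 6, 1, 5], [2], 8, false⟩) (lall (memL L) [2, 1, 6, 5, 3, 1, 3, 2, 6, 1, 5]) = true := by decide +kernel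

theorem rot6_29 : T.rot 6 [5, 3, 1, 3, 2, 6, 1, 5, 6, 2, 1] (sel (ones 23256) ip6 29) = true := by decide +kernel

theorem rot6_29r : band (Rule.ok (2 * 1) EX RL ⟨6 :: [5, 3, 1, 3, 2, 6, 1, 5, 6, 2, 1], [2, 4, 3, 0], 8, false⟩) (lall (memL L) [5, 3, 1, 3, 2, 6, 1, 5, 6, 2, 1]) = true := by decide +kernel

theorem rot6_30 : T.rot 6 [1, 5, 6, 2, 1, 6, 5, 3, 1, 3, 2] (sel (ones 23256) ip6 30) = true := by decide +kernel

theorem rot6_30r : band (Rule.ok (2 * 1) EX RL ⟨6 :: [1, 5, 6, 2, 1, 6, 5, 3, 1, 3, 2], [0, 5], 8, false⟩) (lall (memL L) [1, 5, 6, 2, 1, 6, 5, 3, 1, 3, 2]) = true := by decide +kernel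

theorem rot6_31 : T.rot 6 [5, 1, 3, 1, 3, 1, 3, 1, 5, 3, 2, 2] (sel (ones 23256) ip6 31) = true := by decide +kernel

theorem rot6_31r : band (Rule.ok (2 * 1) EX RL ⟨6 :: [5, 1, 3, 1, 3, 1, 3, 1, 5, 3, 2, 2], [3, 5], 7, true⟩) (lall (memL L) [5, 1, 3, 1, 3, 1, 3, 1, 5, 3, 2, 2]) = true := by decide +kernel

theorem rot6_32 : T.rot 6 [2, 1, 6, 1, 6, 1, 6, 1, 2, 3, 5, 5] (sel (ones 23256) ip6 32) = true := by decide +kernel

theorem rot6_32r : band (Rule.ok (2 * 1) EX RL ⟨6 :: [2, 1, 6, 1, 6, 1, 6, 1, 2, 3, 5, 5], [3, 5, 2, 2], 7, false⟩) (lall (memL L) [2, 1, 6, 1, 6, 1, 6, 1, 2, 3, 5, 5]) = true := by decide +kernel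

theorem rot6_33 : T.rot 6 [1, 6, 1, 6, 1, 2, 3, 5, 5, 6, 2, 1] (sel (ones 23256) ip6 33) = true := by decide +kernel

theorem rot6_33r : band (Rule.ok (2 * 1) EX RL ⟨6 :: [1, 6, 1, 6, 1, 2, 3, 5, 5, 6, 2, 1], [0, 5, 0, 5, 0, 5], 7, false⟩) (lall (memL L) [1, 6, 1, 6, 1, 2, 3, 5, 5, 6, 2, 1]) = true := by decide +kernel

theorem rot6_34 : T.rot 6 [1, 6, 1, 2, 3, 5, 5, 6, 2, 1, 6, 1] (sel (ones 23256) ip6 34) = true := by decide +kernel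

theorem rot6_34r : band (Rule.ok (2 * 1) EX RL ⟨6 :: [1, 6, 1, 2, 3, 5, 5, 6, 2, 1, 6, 1], [0, 5, 0, 5], 7, false⟩) (lall (memL L) [1, 6, 1, 2, 3, 5, 5, 6, 2, 1, 6, 1]) = true := by decide +kernel

theorem rot6_35 : T.rot 6 [1, 2, 3, 5, 5, 6, 2, 1, 6, 1, 6, 1] (sel (ones 23256) ip6 35) = true := by decide +kernel

theorem rot6_35r : band (Rule.ok (2 * 1) EX RL ⟨6 :: [1, 2, 3, 5, 5, 6, 2, 1, 6, 1, 6, 1], [0, 5], 7, false⟩) (lall (memL L) [1, 2, 3, 5, 5, 6, 2, 1, 6, 1, 6, 1]) = true := by decide +kernel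

theorem rot6_36 : T.rot 6 [7, 1, 2, 4, 1, 7, 5, 1, 4, 3, 1, 6, 7, 1, 2, 4, 1] (sel (ones 23256) ip6 36) = true := by decide +kernel

theorem rot6_36r : band (Rule.ok (2 * 1) EX RL ⟨6 :: [7, 1, 2, 4, 1, 7, 5, 1, 4, 3, 1, 6, 7, 1, 2, 4, 1], [6, 0, 3, 7, 0], 18, true⟩) (lall (memL L) [7, 1, 2, 4, 1, 7, 5, 1, 4, 3, 1, 6, 7, 1, 2, 4, 1]) = true := by decide +kernel

theorem rot6_37 : T.rot 6 [7, 1, 2, 4, 1, 6, 7, 1, 2, 4, 1, 7, 5, 1, 4, 3, 1] (sel (ones 23256) ip6 37) = true := by decide +kernel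

theorem rot6_37r : band (Rule.ok (2 * 1) EX RL ⟨6 :: [7, 1, 2, 4, 1, 6, 7, 1, 2, 4, 1, 7, 5, 1, 4, 3, 1], [5], 18, true⟩) (lall (memL L) [7, 1, 2, 4, 1, 6, 7, 1, 2, 4, 1, 7, 5, 1, 4, 3, 1]) = true := by decide +kernel

theorem rot6_38 : T.rot 6 [7, 1, 2, 4, 1, 7, 5, 1, 4, 3, 1, 7, 5, 1, 4, 3, 1] (sel (ones 23256) ip6 38) = true := by decide +kernel

theorem rot6_38r : band (Rule.ok (2 * 1) EX RL ⟨6 :: [7, 1, 2, 4, 1, 7, 5, 1, 4, 3, 1, 7, 5, 1, 4, 3, 1], [5, 0], 18, false⟩) (lall (memL L) [7, 1, 2, 4, 1, 7, 5, 1, 4, 3, 1, 7, 5, 1, 4, 3, 1]) = true := by decide +kernel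

theorem cov6 : T.cover 6 [(sel (ones 23256) ip6 1), (sel (ones 23256) ip6 2), (sel (ones 23256) ip6 3), (sel (ones 23256) ip6 4), (sel (ones 23256) ip6 5), (sel (ones 23256) ip6 6), (sel (ones 23256) ip6 7), (sel (ones 23256) ip6 8), (sel (ones 23256) ip6 9), (sel (ones 23256) ip6 10), (sel (ones 23256) ip6 11), (sel (ones 23256) ip6 12), (sel (ones 23256) ip6 13), (sel (ones 23256) ip6 14), (sel (ones 23256) ip6 15), (sel (ones 23256) ip6 16), (sel (ones 23256) ip6 17), (sel (ones 23256) ip6 18), (sel (ones 23256) ip6 19), (sel (ones 23256) ip6 20), (sel (ones 23256) ip6 21), (sel (ones 23256) ip6 22), (sel (ones 23256) ip6 23), (sel (ones 23256) ip6 24), (sel (ones 23256) ip6 25), (sel (ones 23256) ip6 26), (sel (ones 23256) ip6 27), (sel (ones 23256) ip6 28), (sel (ones 23256) ip6 29), (sel (ones 23256) ip6 30), (sel (ones 23256) ip6 31), (sel (ones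 23256) ip6 32), (sel (ones 23256) ip6 33), (sel (ones 23256) ip6 34), (sel (ones 23256) ip6 35), (sel (ones 23256) ip6 36), (sel (ones 23256) ip6 37), (sel (ones 23256) ip6 38)] = true := by decide +kernel

theorem tl6 : T.treeLt 15 6 = true := by decide +kernel

theorem rot7_1 : T.rot 7 [4] (sel (ones 23256) ip7 1) = true := by decide +kernel

theorem rot7_1r : band (Rule.ok (2 * 1) EX RL ⟨7 :: [4], [], 19, false⟩) (lall (memL L) [4]) = true := by decide +kernel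

theorem rot7_2 : T.rot 7 [7, 7, 6, 5, 6, 2] (sel (ones 23256) ip7 2) = true := by decide +kernel

theorem rot7_2r : band (Rule.ok (2 * 1) EX RL ⟨7 :: [7, 7, 6, 5, 6, 2], [4, 3], 9, false⟩) (lall (memL L) [7, 7, 6, 5, 6, 2]) = true := by decide +kernel

theorem rot7_3 : T.rot 7 [7, 6, 5, 6, 2, 7] (sel (ones 23256) ip7 3) = true := by decide +kernel

theorem rot7_3r : band (Rule.ok (2 * 1) EX RL ⟨7 :: [7, 6, 5, 6, 2, 7], [4, 3, 6], 9, false⟩) (lall (memL L) [7, 6, 5, 6, 2, 7]) = true := by decide +kernel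

theorem rot7_4 : T.rot 7 [6, 5, 6, 2, 7, 7] (sel (ones 23256) ip7 4) = true := by decide +kernel

theorem rot7_4r : band (Rule.ok (2 * 1) EX RL ⟨7 :: [6, 5, 6, 2, 7, 7], [3, 5, 7], 9, false⟩) (lall (memL L) [6, 5, 6, 2, 7, 7]) = true := by decide +kernel

theorem rot7_5 : T.rot 7 [6, 7, 7, 2, 6, 5] (sel (ones 23256) ip7 5) = true := by decide +kernel

theorem rot7_5r : band (Rule.ok (2 * 1) EX RL ⟨7 :: [6, 7, 7, 2, 6, 5], [], 10, false⟩) (lall (memL L) [6, 7, 7, 2, 6, 5]) = true := by decide +kernel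

theorem rot7_6 : T.rot 7 [7, 2, 6, 5, 7, 6] (sel (ones 23256) ip7 6) = true := by decide +kernel

theorem rot7_6r : band (Rule.ok (2 * 1) EX RL ⟨7 :: [7, 2, 6, 5, 7, 6], [6, 4], 10, false⟩) (lall (memL L) [7, 2, 6, 5, 7, 6]) = true := by decide +kernel

theorem rot7_7 : T.rot 7 [2, 6, 5, 7, 6, 7] (sel (ones 23256) ip7 7) = true := by decide +kernel

theorem rot7_7r : band (Rule.ok (2 * 1) EX RL ⟨7 :: [2, 6, 5, 7, 6, 7], [6, 4, 6], 10, false⟩) (lall (memL L) [2, 6, 5, 7, 6, 7]) = true := by decide +kernel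

theorem rot7_8 : T.rot 7 [7, 7, 5, 6, 2, 6] (sel (ones 23256) ip7 8) = true := by decide +kernel

theorem rot7_8r : band (Rule.ok (2 * 1) EX RL ⟨7 :: [7, 7, 5, 6, 2, 6], [4, 3, 4], 11, false⟩) (lall (memL L) [7, 7, 5, 6, 2, 6]) = true := by decide +kernel

theorem rot7_9 : T.rot 7 [7, 5, 6, 2, 6, 7] (sel (ones 23256) ip7 9) = true := by decide +kernel

theorem rot7_9r : band (Rule.ok (2 * 1) EX RL ⟨7 :: [7, 5, 6, 2, 6, 7], [3, 7, 7], 11, false⟩) (lall (memL L) [7, 5, 6, 2, 6, 7]) = true := by decide +kernel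

theorem rot7_10 : T.rot 7 [5, 6, 2, 6, 7, 7] (sel (ones 23256) ip7 10) = true := by decide +kernel

theorem rot7_10r : band (Rule.ok (2 * 1) EX RL ⟨7 :: [5, 6, 2, 6, 7, 7], [3, 7], 11, false⟩) (lall (memL L) [5, 6, 2, 6, 7, 7]) = true := by decide +kernel

theorem rot7_11 : T.rot 7 [1, 4, 6, 7, 1, 4, 3] (sel (ones 23256) ip7 11) = true := by decide +kernel

theorem rot7_11r : band (Rule.ok (2 * 1) EX RL ⟨7 :: [1, 4, 6, 7, 1, 4, 3], [5], 12, true⟩) (lall (memL L) [1, 4, 6, 7, 1, 4, 3]) = true := by decide +kernel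

theorem rot7_12 : T.rot 7 [1, 4, 3, 7, 1, 4, 6] (sel (ones 23256) ip7 12) = true := by decide +kernel

theorem rot7_12r : band (Rule.ok (2 * 1) EX RL ⟨7 :: [1, 4, 3, 7, 1, 4, 6], [], 12, false⟩) (lall (memL L) [1, 4, 3, 7, 1, 4, 6]) = true := by decide +kernel

theorem rot7_13 : T.rot 7 [2, 4, 3, 7, 5, 4, 3] (sel (ones 23256) ip7 13) = true := by decide +kernel

theorem rot7_13r : band (Rule.ok (2 * 1) EX RL ⟨7 :: [2, 4, 3, 7, 5, 4, 3], [5], 13, true⟩) (lall (memL L) [2, 4, 3, 7, 5, 4, 3]) = true := by decide +kernel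

theorem rot7_14 : T.rot 7 [5, 4, 3, 7, 2, 4, 3] (sel (ones 23256) ip7 14) = true := by decide +kernel

theorem rot7_14r : band (Rule.ok (2 * 1) EX RL ⟨7 :: [5, 4, 3, 7, 2, 4, 3], [6, 3, 7], 13, true⟩) (lall (memL L) [5, 4, 3, 7, 2, 4, 3]) = true := by decide +kernel

theorem rot7_15 : T.rot 7 [2, 4, 6, 7, 5, 4, 6] (sel (ones 23256) ip7 15) = true := by decide +kernel

theorem rot7_15r : band (Rule.ok (2 * 1) EX RL ⟨7 :: [2, 4, 6, 7, 5, 4, 6], [], 13, false⟩) (lall (memL L) [2, 4, 6, 7, 5, 4, 6]) = true := by decide +kernel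

theorem rot7_16 : T.rot 7 [5, 4, 6, 7, 2, 4, 6] (sel (ones 23256) ip7 16) = true := by decide +kernel

theorem rot7_16r : band (Rule.ok (2 * 1) EX RL ⟨7 :: [5, 4, 6, 7, 2, 4, 6], [5, 6, 3, 7], 13, false⟩) (lall (memL L) [5, 4, 6, 7, 2, 4, 6]) = true := by decide +kernel

theorem rot7_17 : T.rot 7 [5, 5, 4, 3, 2, 4, 2] (sel (ones 23256) ip7 17) = true := by decide +kernel

theorem rot7_17r : band (Rule.ok (2 * 1) EX RL ⟨7 :: [5, 5, 4, 3, 2, 4, 2], [3, 7, 3], 15, true⟩) (lall (memL L) [5, 5, 4, 3, 2, 4, 2]) = true := by decide +kernel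

theorem rot7_18 : T.rot 7 [2, 2, 4, 5, 7, 5, 6] (sel (ones 23256) ip7 18) = true := by decide +kernel

theorem rot7_18r : band (Rule.ok (2 * 1) EX RL ⟨7 :: [2, 2, 4, 5, 7, 5, 6], [4], 15, false⟩) (lall (memL L) [2, 2, 4, 5, 7, 5, 6]) = true := by decide +kernel

theorem rot7_19 : T.rot 7 [5, 6, 7, 2, 2, 4, 5] (sel (ones 23256) ip7 19) = true := by decide +kernel

theorem rot7_19r : band (Rule.ok (2 * 1) EX RL ⟨7 :: [5, 6, 7, 2, 2, 4, 5], [3, 7], 15, false⟩) (lall (memL L) [5, 6, 7, 2, 2, 4, 5]) = true := by decide +kernel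

theorem rot7_20 : T.rot 7 [1, 7, 1, 7, 1, 7, 1] (sel (ones 23256) ip7 20) = true := by decide +kernel

theorem rot7_20r : band (Rule.ok (2 * 1) EX RL ⟨7 :: [1, 7, 1, 7, 1, 7, 1], [7], 16, true⟩) (lall (memL L) [1, 7, 1, 7, 1, 7, 1]) = true := by decide +kernel

theorem rot7_21 : T.rot 7 [1, 6, 7, 6, 4, 1, 4, 6] (sel (ones 23256) ip7 21) = true := by decide +kernel

theorem rot7_21r : band (Rule.ok (2 * 1) EX RL ⟨7 :: [1, 6, 7, 6, 4, 1, 4, 6], [], 14, true⟩) (lall (memL L) [1, 6, 7, 6, 4, 1, 4, 6]) = true := by decide +kernel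

theorem rot7_22 : T.rot 7 [6, 4, 1, 4, 6, 7, 1, 6] (sel (ones 23256) ip7 22) = true := by decide +kernel

theorem rot7_22r : band (Rule.ok (2 * 1) EX RL ⟨7 :: [6, 4, 1, 4, 6, 7, 1, 6], [6, 0, 4], 14, true⟩) (lall (memL L) [6, 4, 1, 4, 6, 7, 1, 6]) = true := by decide +kernel

theorem rot7_23 : T.rot 7 [1, 7, 3, 4, 3, 1, 4, 3] (sel (ones 23256) ip7 23) = true := by decide +kernel

theorem rot7_23r : band (Rule.ok (2 * 1) EX RL ⟨7 :: [1, 7, 3, 4, 3, 1, 4, 3], [5], 14, false⟩) (lall (memL L) [1, 7, 3, 4, 3, 1, 4, 3]) = true := by decide +kernel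

theorem rot7_24 : T.rot 7 [3, 4, 3, 1, 4, 3, 7, 1] (sel (ones 23256) ip7 24) = true := by decide +kernel

theorem rot7_24r : band (Rule.ok (2 * 1) EX RL ⟨7 :: [3, 4, 3, 1, 4, 3, 7, 1], [5, 6, 0], 14, false⟩) (lall (memL L) [3, 4, 3, 1, 4, 3, 7, 1]) = true := by decide +kernel

theorem rot7_25 : T.rot 7 [1, 7, 7, 1, 7, 7, 1, 7, 7, 1, 7, 5, 5, 5, 5, 1] (sel (ones 23256) ip7 25) = true := by decide +kernel

theorem rot7_25r : band (Rule.ok (2 * 1) EX RL ⟨7 :: [1, 7, 7, 1, 7, 7, 1, 7, 7, 1, 7, 5, 5, 5, 5, 1], [], 17, true⟩) (lall (memL L) [1, 7, 7, 1, 7, 7, 1, 7, 7, 1, 7, 5, 5, 5, 5, 1]) = true := by decide +kernel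

theorem rot7_26 : T.rot 7 [7, 1, 7, 7, 1, 7, 7, 1, 7, 5, 5, 5, 5, 1, 7, 1] (sel (ones 23256) ip7 26) = true := by decide +kernel

theorem rot7_26r : band (Rule.ok (2 * 1) EX RL ⟨7 :: [7, 1, 7, 7, 1, 7, 7, 1, 7, 5, 5, 5, 5, 1, 7, 1], [6, 0], 17, true⟩) (lall (memL L) [7, 1, 7, 7, 1, 7, 7, 1, 7, 5, 5, 5, 5, 1, 7, 1]) = true := by decide +kernel

theorem rot7_27 : T.rot 7 [1, 7, 7, 1, 7, 7, 1, 7, 5, 5, 5, 5, 1, 7, 1, 7] (sel (ones 23256) ip7 27) = true := by decide +kernel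

theorem rot7_27r : band (Rule.ok (2 * 1) EX RL ⟨7 :: [1, 7, 7, 1, 7, 7, 1, 7, 5, 5, 5, 5, 1, 7, 1, 7], [6, 0, 6], 17, true⟩) (lall (memL L) [1, 7, 7, 1, 7, 7, 1, 7, 5, 5, 5, 5, 1, 7, 1, 7]) = true := by decide +kernel

theorem rot7_28 : T.rot 7 [7, 1, 7, 7, 1, 7, 5, 5, 5, 5, 1, 7, 1, 7, 7, 1] (sel (ones 23256) ip7 28) = true := by decide +kernel

theorem rot7_28r : band (Rule.ok (2 * 1) EX RL ⟨7 :: [7, 1, 7, 7, 1, 7, 5, 5, 5, 5, 1, 7, 1, 7, 7, 1], [6, 0, 6, 6, 0], 17, true⟩) (lall (memL L) [7, 1, 7, 7, 1, 7, 5, 5, 5, 5, 1, 7, 1, 7, 7, 1]) = true := by decide +kernel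

theorem rot7_29 : T.rot 7 [1, 7, 7, 1, 7, 5, 5, 5, 5, 1, 7, 1, 7, 7, 1, 7] (sel (ones 23256) ip7 29) = true := by decide +kernel

theorem rot7_29r : band (Rule.ok (2 * 1) EX RL ⟨7 :: [1, 7, 7, 1, 7, 5, 5, 5, 5, 1, 7, 1, 7, 7, 1, 7], [6, 0, 6, 6, 0, 6], 17, true⟩) (lall (memL L) [1, 7, 7, 1, 7, 5, 5, 5, 5, 1, 7, 1, 7, 7, 1, 7]) = true := by decide +kernel

theorem rot7_30 : T.rot 7 [7, 1, 7, 5, 5, 5, 5, 1, 7, 1, 7, 7, 1, 7, 7, 1] (sel (ones 23256) ip7 30) = true := by decide +kernel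

theorem rot7_30r : band (Rule.ok (2 * 1) EX RL ⟨7 :: [7, 1, 7, 5, 5, 5, 5, 1, 7, 1, 7, 7, 1, 7, 7, 1], [6, 0, 6, 6, 0, 6, 6, 0], 17, true⟩) (lall (memL L) [7, 1, 7, 5, 5, 5, 5, 1, 7, 1, 7, 7, 1, 7, 7, 1]) = true := by decide +kernel

theorem rot7_31 : T.rot 7 [1, 7, 5, 5, 5, 5, 1, 7, 1, 7, 7, 1, 7, 7, 1, 7] (sel (ones 23256) ip7 31) = true := by decide +kernel

theorem rot7_31r : band (Rule.ok (2 * 1) EX RL ⟨7 :: [1, 7, 5, 5, 5, 5, 1, 7, 1, 7, 7, 1, 7, 7, 1, 7], [0, 3, 3, 3, 3, 7, 0, 7], 17, true⟩) (lall (memL L) [1, 7, 5, 5, 5, 5, 1, 7, 1, 7, 7, 1, 7, 7, 1, 7]) = true := by decide +kernel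

theorem rot7_32 : T.rot 7 [5, 5, 5, 5, 1, 7, 1, 7, 7, 1, 7, 7, 1, 7, 7, 1] (sel (ones 23256) ip7 32) = true := by decide +kernel

theorem rot7_32r : band (Rule.ok (2 * 1) EX RL ⟨7 :: [5, 5, 5, 5, 1, 7, 1, 7, 7, 1, 7, 7, 1, 7, 7, 1], [0, 3, 3, 3, 3, 7], 17, true⟩) (lall (memL L) [5, 5, 5, 5, 1, 7, 1, 7, 7, 1, 7, 7, 1, 7, 7, 1]) = true := by decide +kernel

theorem rot7_33 : T.rot 7 [1, 2, 4, 1, 6, 7, 1, 2, 4, 1, 7, 5, 1, 4, 3, 1, 6] (sel (ones 23256) ip7 33) = true := by decide +kernel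

theorem rot7_33r : band (Rule.ok (2 * 1) EX RL ⟨7 :: [1, 2, 4, 1, 6, 7, 1, 2, 4, 1, 7, 5, 1, 4, 3, 1, 6], [], 18, true⟩) (lall (memL L) [1, 2, 4, 1, 6, 7, 1, 2, 4, 1, 7, 5, 1, 4, 3, 1, 6]) = true := by decide +kernel

theorem rot7_34 : T.rot 7 [1, 2, 4, 1, 7, 5, 1, 4, 3, 1, 6, 7, 1, 2, 4, 1, 6] (sel (ones 23256) ip7 34) = true := by decide +kernel

theorem rot7_34r : band (Rule.ok (2 * 1) EX RL ⟨7 :: [1, 2, 4, 1, 7, 5, 1, 4, 3, 1, 6, 7, 1, 2, 4, 1, 6], [6, 0, 3, 7, 0, 4], 18, true⟩) (lall (memL L) [1, 2, 4, 1, 7, 5, 1, 4, 3, 1, 6, 7, 1, 2, 4, 1, 6]) = true := by decide +kernel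

theorem rot7_35 : T.rot 7 [5, 1, 4, 3, 1, 6, 7, 1, 2, 4, 1, 6, 7, 1, 2, 4, 1] (sel (ones 23256) ip7 35) = true := by decide +kernel

theorem rot7_35r : band (Rule.ok (2 * 1) EX RL ⟨7 :: [5, 1, 4, 3, 1, 6, 7, 1, 2, 4, 1, 6, 7, 1, 2, 4, 1], [5, 0, 4, 6, 0, 3, 7], 18, true⟩) (lall (memL L) [5, 1, 4, 3, 1, 6, 7, 1, 2, 4, 1, 6, 7, 1, 2, 4, 1]) = true := by decide +kernel

theorem rot7_36 : T.rot 7 [1, 2, 4, 1, 7, 5, 1, 4, 3, 1, 7, 5, 1, 4, 3, 1, 6] (sel (ones 23256) ip7 36) = true := by decide +kernel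

theorem rot7_36r : band (Rule.ok (2 * 1) EX RL ⟨7 :: [1, 2, 4, 1, 7, 5, 1, 4, 3, 1, 7, 5, 1, 4, 3, 1, 6], [5, 0, 4], 18, false⟩) (lall (memL L) [1, 2, 4, 1, 7, 5, 1, 4, 3, 1, 7, 5, 1, 4, 3, 1, 6]) = true := by decide +kernel

theorem rot7_37 : T.rot 7 [5, 1, 4, 3, 1, 7, 5, 1, 4, 3, 1, 6, 7, 1, 2, 4, 1] (sel (ones 23256) ip7 37) = true := by decide +kernel

theorem rot7_37r : band (Rule.ok (2 * 1) EX RL ⟨7 :: [5, 1, 4, 3, 1, 7, 5, 1, 4, 3, 1, 6, 7, 1, 2, 4, 1], [5, 0, 4, 6, 0, 3, 7, 0], 18, false⟩) (lall (memL L) [5, 1, 4, 3, 1, 7, 5, 1, 4, 3, 1, 6, 7, 1, 2, 4, 1]) = true := by decide +kernel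

theorem rot7_38 : T.rot 7 [5, 1, 4, 3, 1, 6, 7, 1, 2, 4, 1, 7, 5, 1, 4, 3, 1] (sel (ones 23256) ip7 38) = true := by decide +kernel

theorem rot7_38r : band (Rule.ok (2 * 1) EX RL ⟨7 :: [5, 1, 4, 3, 1, 6, 7, 1, 2, 4, 1, 7, 5, 1, 4, 3, 1], [6, 0, 3, 7], 18, false⟩) (lall (memL L) [5, 1, 4, 3, 1, 6, 7, 1, 2, 4, 1, 7, 5, 1, 4, 3, 1]) = true := by decide +kernel

theorem cov7 : T.cover 7 [(sel (ones 23256) ip7 1), (sel (ones 23256) ip7 2), (sel (ones 23256) ip7 3), (sel (ones 23256) ip7 4), (sel (ones 23256) ip7 5), (sel (ones 23256) ip7 6), (sel (ones 23256) ip7 7), (sel (ones 23256) ip7 8), (sel (ones 23256) ip7 9), (sel (ones 23256) ip7 10), (sel (ones 23256) ip7 11), (sel (ones 23256) ip7 12), (sel (ones 23256) ip7 13), (sel (ones 23256) ip7 14), (sel (ones 23256) ip7 15), (sel (ones 23256) ip7 16), (sel (ones 23256) ip7 17), (sel (ones 23256) ip7 18),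 (sel (ones 23256) ip7 19), (sel (ones 23256) ip7 20), (sel (ones 23256) ip7 21), (sel (ones 23256) ip7 22), (sel (ones 23256) ip7 23), (sel (ones 23256) ip7 24), (sel (ones 23256) ip7 25), (sel (ones 23256) ip7 26), (sel (ones 23256) ip7 27), (sel (ones 23256) ip7 28), (sel (ones 23256) ip7 29), (sel (ones 23256) ip7 30), (sel (ones 23256) ip7 31), (sel (ones 23256) ip7 32), (sel (ones 23256) ip7 33), (sel (ones 23256) ip7 34), (sel (ones 23256) ip7 35), (sel (ones 23256) ip7 36), (sel (ones 23256) ip7 37), (sel (ones 23256) ip7 38)] = true := by decide +kernel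

theorem tl7 : T.treeLt 15 7 = true := by decide +kernel

end Cfsg.Agent.Spor.J3a
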