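import Cfsg.Agent.Spor.Sub2
import Cfsg.Agent.Spor.J3a.Grp
import Cfsg.Agent.Spor.J3a.U.Main
import Cfsg.Agent.Spor.L216a.Main
import Cfsg.Agent.Spor.DC
import Cfsg.Agent.Spor.L216b.Main

set_option autoImplicit false
set_option maxRecDepth 100000

namespace Cfsg.Agent.Spor.J3a

theorem boundK : Bound 2 1 L216a.RL 8160 := show Bound 2 1 L216a.RL (136 * (60)) from (L216a.cert.bound' L216b.cert.bound_nil (H := [([], 0, true), ([], 1, true), ([], 2, true), ([], 3, true), ([], 4, true), ([], 5, true), ([], 6, true), ([], 7, true)]) (H' := [([], 3, true), ([], 0, true), ([], 1, true), ([], 2, true)]) (by decide +kernel) (by decide +kernel))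

theorem cardK : Nat.card (wsub 4 p U.pKWD) = 8160 := by
  rw [← Subgroup.card_map_of_injective P.subtype_injective, map_wsub_lift]
  exact Nat.dvd_antisymm (boundK _ _ U.pKW) (by rw [U.pKG]; exact U.lb)

theorem indexK : (wsub 4 p U.pKWD).index = 6156 :=
  index_of_card (cardP.trans (by norm_num)) cardK (by norm_num)

end Cfsg.Agent.Spor.J3a
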